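import Cfsg.Agent.Lib.CharsMore.D4MinDeg.Weights2

/-!
# Characters of coordinate spaces over a finite field
-/

set_option autoImplicit false

namespace CfsgLib.CharsMore.G2MinDeg

/-- two commuting families as one -/
noncomputable def prodChar {M N G : Type*} [AddCommGroup M] [AddCommGroup N] [Group G]
    (e : AddChar M G) (f : AddChar N G) (h : ∀ m n, Commute (e m) (f n)) : AddChar (M × N) G where
  toFun p := e p.1 * f p.2
  map_zero_eq_one' := by simp
  map_add_eq_mul' p p' := by
    simp only [Prod.fst_add, Prod.snd_add, AddChar.map_add_eq_mul]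
    calc e p.1 * e p'.1 * (f p.2 * f p'.2) = e p.1 * (e p'.1 * f p.2) * f p'.2 := by group
      _ = _ := by rw [(h _ _).eq]; group

lemma prodChar_apply {M N G : Type*} [AddCommGroup M] [AddCommGroup N] [Group G]
    (e : AddChar M G) (f : AddChar N G) (h : ∀ m n, Commute (e m) (f n)) (p : M × N) :
    prodChar e f h p = e p.1 * f p.2 := rfl

variable {F : Type*} [Field F] [Fintype F]

/-- a fixed non-trivial character of the field -/
noncomputable def psi (F : Type*) [Field F] [Fintype F] : AddChar F ℂ :=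
  AddChar.FiniteField.primitiveChar_to_Complex F

lemma psi_primitive : (psi F).IsPrimitive :=
  AddChar.FiniteField.primitiveChar_to_Complex_isPrimitive F

lemma psi_inj {a b : F} (h : ∀ x, psi F (a * x) = psi F (b * x)) : a = b := by
  by_contra hne
  obtain ⟨x, hx⟩ := AddChar.ne_one_iff.1 (psi_primitive (sub_ne_zero.2 hne))
  refine hx ?_
  rw [AddChar.mulShift_apply, sub_mul, sub_eq_add_neg, AddChar.map_add_eq_mul, h,
    ← AddChar.map_add_eq_mul, add_neg_cancel, AddChar.map_zero_eq_one]

variable (F) in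
/-- characters of the line -/
noncomputable def w1 (a : F) : AddChar F ℂ := (psi F).mulShift a

lemma w1_apply (a x : F) : w1 F a x = psi F (a * x) := rfl

variable (F) in
/-- characters of the triples -/
noncomputable def w3 (a b c : F) : AddChar (F × F × F) ℂ where
  toFun m := psi F (a * m.1 + b * m.2.1 + c * m.2.2)
  map_zero_eq_one' := by simp
  map_add_eq_mul' m n := by
    rw [← AddChar.map_add_eq_mul]; congr 1; simp only [Prod.fst_add, Prod.snd_add]; ring

lemma w3_apply (a b c : F) (m : F × F × F) :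
    w3 F a b c m = psi F (a * m.1 + b * m.2.1 + c * m.2.2) := rfl

variable (F) in
/-- characters of the quadruples -/
noncomputable def w4 (a b c d : F) : AddChar (F × F × F × F) ℂ where
  toFun m := psi F (a * m.1 + b * m.2.1 + c * m.2.2.1 + d * m.2.2.2)
  map_zero_eq_one' := by simp
  map_add_eq_mul' m n := by
    rw [← AddChar.map_add_eq_mul]; congr 1; simp only [Prod.fst_add, Prod.snd_add]; ring

lemma w4_apply (a b c d : F) (m : F × F × F × F) :
    w4 F a b c d m = psi F (a * m.1 + b * m.2.1 + c * m.2.2.1 + d * m.2.2.2) := rfl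

lemma w1_bijective : Function.Bijective (w1 F) :=
  (Fintype.bijective_iff_injective_and_card _).2
    ⟨fun a b h => psi_inj fun x => DFunLike.congr_fun h x, by rw [AddChar.card_eq]⟩

lemma w3_bijective : Function.Bijective fun p : F × F × F => w3 F p.1 p.2.1 p.2.2 := by
  refine (Fintype.bijective_iff_injective_and_card _).2 ⟨fun p p' h => ?_, by rw [AddChar.card_eq]⟩
  have h' := DFunLike.congr_fun h
  refine Prod.ext (psi_inj fun x => ?_) (Prod.ext (psi_inj fun x => ?_) (psi_inj fun x => ?_))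
  · simpa [w3_apply] using h' (x, 0, 0)
  · simpa [w3_apply] using h' (0, x, 0)
  · simpa [w3_apply] using h' (0, 0, x)

lemma w4_bijective : Function.Bijective fun p : F × F × F × F => w4 F p.1 p.2.1 p.2.2.1 p.2.2.2 := by
  refine (Fintype.bijective_iff_injective_and_card _).2 ⟨fun p p' h => ?_, by rw [AddChar.card_eq]⟩
  have h' := DFunLike.congr_fun h
  refine Prod.ext (psi_inj fun x => ?_) (Prod.ext (psi_inj fun x => ?_)
    (Prod.ext (psi_inj fun x => ?_) (psi_inj fun x => ?_)))
  · simpa [w4_apply] using h' (x, 0, 0, 0)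
  · simpa [w4_apply] using h' (0, x, 0, 0)
  · simpa [w4_apply] using h' (0, 0, x, 0)
  · simpa [w4_apply] using h' (0, 0, 0, x)

lemma w3_inj {a b c a' b' c' : F} :
    w3 F a b c = w3 F a' b' c' ↔ a = a' ∧ b = b' ∧ c = c' := by
  refine ⟨fun h => ?_, fun ⟨h1, h2, h3⟩ => by rw [h1, h2, h3]⟩
  simpa [Prod.ext_iff] using w3_bijective.injective (a₁ := (a, b, c)) (a₂ := (a', b', c')) h

lemma w4_inj {a b c d a' b' c' d' : F} :
    w4 F a b c d = w4 F a' b' c' d' ↔ a = a' ∧ b = b' ∧ c = c' ∧ d = d' := by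
  refine ⟨fun h => ?_, fun ⟨h1, h2, h3, h4⟩ => by rw [h1, h2, h3, h4]⟩
  simpa [Prod.ext_iff] using
    w4_bijective.injective (a₁ := (a, b, c, d)) (a₂ := (a', b', c', d')) h

lemma sum_w3 {β : Type*} [AddCommMonoid β] (f : AddChar (F × F × F) ℂ → β) :
    ∑ χ, f χ = ∑ a, ∑ b, ∑ c, f (w3 F a b c) := by
  rw [← (Equiv.ofBijective _ w3_bijective).sum_comp]
  simp only [Equiv.ofBijective_apply, Fintype.sum_prod_type]

lemma sum_w4 {β : Type*} [AddCommMonoid β] (f : AddChar (F × F × F × F) ℂ → β) :
    ∑ χ, f χ = ∑ a, ∑ b, ∑ c, ∑ d, f (w4 F a b c d) := by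
  rw [← (Equiv.ofBijective _ w4_bijective).sum_comp]
  simp only [Equiv.ofBijective_apply, Fintype.sum_prod_type]

lemma sum_two {β : Type*} [AddCommMonoid β] (f : F → β) (c : β) (h : ∀ a, a ≠ 0 → f a = c) :
    ∑ a, f a = f 0 + (Fintype.card F - 1) • c := by
  classical
  rw [← Finset.add_sum_erase _ _ (Finset.mem_univ (0 : F)),
    Finset.sum_congr rfl fun a ha => h a (Finset.ne_of_mem_erase ha), Finset.sum_const,
    Finset.card_erase_of_mem (Finset.mem_univ _), Finset.card_univ]

lemma exists_pow_ne_one {n : ℕ} (hn : 0 < n) (h : n < Fintype.card F - 1) :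
    ∃ z : Fˣ, ∀ i, 0 < i → i ≤ n → z ^ i ≠ 1 := by
  classical
  obtain ⟨g, hg⟩ := IsCyclic.exists_ofOrder_eq_natCard (α := Fˣ)
  refine ⟨g, fun i hi hin he => ?_⟩
  have := Nat.le_of_dvd hi (orderOf_dvd_of_pow_eq_one he)
  rw [hg, Nat.card_eq_fintype_card, Fintype.card_units] at this
  omega

end CfsgLib.CharsMore.G2MinDeg
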