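import Cfsg.Agent.Lib.Chev.Types
import Cfsg.Agent.Lib.Chev.BN2
import Cfsg.Agent.Lib.Chev.Twist.Class

/-!
# Root elements, torus and Weyl elements of the groups of type G2

The roots are numbered as in the tables: `6 = b` (long), `7 = a` (short), `8 = a + b`, `9 = 2a + b`,
`10 = 3a + b`, `11 = 3a + 2b`, and `11 - r` is the negative of `r`.
-/

set_option autoImplicit false
set_option maxRecDepth 100000

namespace CfsgLib.CharsMore.G2MinDeg

open Cfsg.Lie Matrix CfsgLib.Chev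

/-- the group -/
abbrev GG (F : Type*) [Field F] : Type _ := ↥(chevG2.group F)

local notation "g₂" => stdG2.good

variable {F : Type*} [Field F]

/-- root elements -/
noncomputable def X (r : ℕ) : AddChar F (GG F) where
  toFun t := ⟨xG g₂ r t, xG_mem_group g₂ r t⟩
  map_zero_eq_one' := Subtype.ext (xG_zero g₂ r)
  map_add_eq_mul' t u := Subtype.ext (xG_add g₂ r t u).symm

lemma X_val (r : ℕ) (t : F) : ((X r t : GG F) : GL chevG2.Idx F) = xG g₂ r t := rfl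

/-- the two parameters of the torus -/
def cv (a b : Fˣ) : Fin chevG2.rank → Fˣ := fun i => if i.val = 0 then a else b

lemma cv_mul (a b c d : Fˣ) : cv a b * cv c d = cv (a * c) (b * d) := by
  funext i; simp only [Pi.mul_apply, cv]; split_ifs <;> rfl

lemma cv_zero' (a b : Fˣ) : cv a b (0 : Fin 2) = a := rfl

lemma cv_one' (a b : Fˣ) : cv a b (1 : Fin 2) = b := rfl

lemma cv_one : cv (1 : Fˣ) 1 = 1 := by funext i; simp [cv]

/-- torus elements -/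
noncomputable def H (a b : Fˣ) : GG F :=
  ⟨tor chevG2 auxG2 (cv (a) (b)), diagonalSubgroup_le_group g₂
    (by rw [diagonalSubgroup_eq g₂]; exact ⟨_, rfl⟩)⟩

lemma H_val (a b : Fˣ) : ((H a b : GG F) : GL chevG2.Idx F) = tor chevG2 auxG2 (cv (a) (b)) := rfl

lemma H_mul (a b c d : Fˣ) : H a b * H c d = H (a * c) (b * d) := Subtype.ext (by
  show tor chevG2 auxG2 (cv a b) * tor chevG2 auxG2 (cv c d) = tor chevG2 auxG2 (cv (a * c) (b * d))
  rw [← map_mul, cv_mul])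

lemma H_one : H (1 : Fˣ) 1 = (1 : GG F) := Subtype.ext (by
  show tor chevG2 auxG2 (cv (1 : Fˣ) 1) = 1
  rw [cv_one, map_one])

/-- the Weyl element of the short simple root -/
noncomputable def n0 : GG F := ⟨nS F g₂ 0, nS_mem_group g₂ 0⟩

/-- the Weyl element of the long simple root -/
noncomputable def n1 : GG F := ⟨nS F g₂ 1, nS_mem_group g₂ 1⟩

lemma simple_idx : chevG2.simple 0 = 7 ∧ chevG2.simple 1 = 6 ∧ chevG2.neg 7 = 4 ∧
    chevG2.neg 6 = 5 := by decide +kernel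

lemma rank_two : chevG2.rank = 2 := rfl

lemma X_comm {r s : ℕ} (h : commPair chevG2 auxG2 r s = true) (t u : F) :
    Commute (X r t) (X s u) := Subtype.ext (commute_xG stdG2 h t u).eq

lemma comm_tab : ∀ p ∈ ([(6, 8), (6, 9), (6, 11), (7, 10), (7, 11), (8, 10), (8, 11), (9, 10),
    (9, 11), (10, 11), (4, 11), (5, 7)] : List (ℕ × ℕ)),
    commPair chevG2 auxG2 p.1 p.2 = true ∧ commPair chevG2 auxG2 p.2 p.1 = true := by
  decide +kernel

lemma c6_8 (t u : F) : Commute (X 6 t) (X 8 u) := X_comm (comm_tab (6, 8) (by simp)).1 t u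
lemma c6_9 (t u : F) : Commute (X 6 t) (X 9 u) := X_comm (comm_tab (6, 9) (by simp)).1 t u
lemma c6_11 (t u : F) : Commute (X 6 t) (X 11 u) := X_comm (comm_tab (6, 11) (by simp)).1 t u
lemma c7_10 (t u : F) : Commute (X 7 t) (X 10 u) := X_comm (comm_tab (7, 10) (by simp)).1 t u
lemma c7_11 (t u : F) : Commute (X 7 t) (X 11 u) := X_comm (comm_tab (7, 11) (by simp)).1 t u
lemma c8_10 (t u : F) : Commute (X 8 t) (X 10 u) := X_comm (comm_tab (8, 10) (by simp)).1 t u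
lemma c8_11 (t u : F) : Commute (X 8 t) (X 11 u) := X_comm (comm_tab (8, 11) (by simp)).1 t u
lemma c9_10 (t u : F) : Commute (X 9 t) (X 10 u) := X_comm (comm_tab (9, 10) (by simp)).1 t u
lemma c9_11 (t u : F) : Commute (X 9 t) (X 11 u) := X_comm (comm_tab (9, 11) (by simp)).1 t u
lemma c10_11 (t u : F) : Commute (X 10 t) (X 11 u) := X_comm (comm_tab (10, 11) (by simp)).1 t u

lemma swap_gen {r s : ℕ} {L : List (ℕ × ℤ × ℕ × ℕ)}
    (h : r < chevG2.nroots ∧ s < chevG2.nroots ∧ s ≠ r ∧ s ≠ auxG2.neg r ∧ auxG2.terms r s = L)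
    (t u : F) : X s u * X r t =
      X r t * X s u * (L.map fun c => X c.1 ((c.2.1 : F) * (-t) ^ c.2.2.1 * u ^ c.2.2.2)).prod := by
  obtain ⟨hr, hs, hsr, hsn, rfl⟩ := h
  apply Subtype.ext
  push_cast
  rw [List.map_map]
  exact xG_swap stdG2 hr hs hsr hsn t u

lemma swap_tab : ∀ p ∈ ([(9, 8, [(11, -3, 1, 1)]), (10, 6, [(11, -1, 1, 1)]), (6, 10, [(11, 1, 1, 1)]),
    (9, 7, [(10, -3, 1, 1)]), (7, 9, [(10, 3, 1, 1)]),
    (8, 7, [(9, 2, 1, 1), (11, 3, 2, 1), (10, -3, 1, 2)]),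
    (7, 8, [(9, -2, 1, 1), (10, -3, 2, 1), (11, 3, 1, 2)]),
    (6, 7, [(8, 1, 1, 1), (9, 1, 1, 2), (10, -1, 1, 3), (11, -2, 2, 3)]),
    (7, 6, [(8, -1, 1, 1), (9, 1, 2, 1), (10, 1, 3, 1), (11, 1, 3, 2)])] :
      List (ℕ × ℕ × List (ℕ × ℤ × ℕ × ℕ))),
    p.1 < chevG2.nroots ∧ p.2.1 < chevG2.nroots ∧ p.2.1 ≠ p.1 ∧ p.2.1 ≠ auxG2.neg p.1 ∧
      auxG2.terms p.1 p.2.1 = p.2.2 := by decide +kernel

lemma s89 (s t : F) : X 8 s * X 9 t = X 9 t * X 11 (3 * t * s) * X 8 s := by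
  rw [swap_gen (swap_tab (9, 8, [(11, -3, 1, 1)]) (by simp)) t s, mul_assoc, mul_assoc]
  simp only [List.map_cons, List.map_nil, List.prod_cons, List.prod_nil, mul_one]
  rw [(c8_11 s _).eq]
  congr 3
  push_cast; ring

lemma s610 (y d : F) : X 6 y * X 10 d = X 10 d * X 11 (d * y) * X 6 y := by
  rw [swap_gen (swap_tab (10, 6, [(11, -1, 1, 1)]) (by simp)) d y, mul_assoc, mul_assoc]
  simp only [List.map_cons, List.map_nil, List.prod_cons, List.prod_nil, mul_one]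
  rw [(c6_11 y _).eq]
  congr 3
  push_cast; ring

lemma s106 (d y : F) : X 10 d * X 6 y = X 6 y * X 10 d * X 11 (-(y * d)) := by
  rw [swap_gen (swap_tab (6, 10, [(11, 1, 1, 1)]) (by simp)) y d]
  simp only [List.map_cons, List.map_nil, List.prod_cons, List.prod_nil, mul_one]
  congr 2
  push_cast; ring

lemma s79 (t b : F) : X 7 t * X 9 b = X 9 b * X 10 (3 * b * t) * X 7 t := by
  rw [swap_gen (swap_tab (9, 7, [(10, -3, 1, 1)]) (by simp)) b t, mul_assoc, mul_assoc]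
  simp only [List.map_cons, List.map_nil, List.prod_cons, List.prod_nil, mul_one]
  rw [(c7_10 t _).eq]
  congr 3
  push_cast; ring

lemma s97 (u t : F) : X 9 u * X 7 t = X 7 t * X 9 u * X 10 (-(3 * t * u)) := by
  rw [swap_gen (swap_tab (7, 9, [(10, 3, 1, 1)]) (by simp)) t u]
  simp only [List.map_cons, List.map_nil, List.prod_cons, List.prod_nil, mul_one]
  congr 2
  push_cast; ring

lemma s78 (t c : F) : X 7 t * X 8 c =
    X 8 c * X 7 t * (X 9 (-(2 * c * t)) * X 11 (3 * c ^ 2 * t) * X 10 (3 * c * t ^ 2)) := by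
  rw [swap_gen (swap_tab (8, 7, [(9, 2, 1, 1), (11, 3, 2, 1), (10, -3, 1, 2)]) (by simp)) c t]
  simp only [List.map_cons, List.map_nil, List.prod_cons, List.prod_nil, mul_one]
  rw [← mul_assoc (X 9 _)]
  push_cast
  ring_nf

lemma s87 (u t : F) : X 8 u * X 7 t =
    X 7 t * X 8 u * (X 9 (2 * t * u) * X 10 (-(3 * t ^ 2 * u)) * X 11 (-(3 * t * u ^ 2))) := by
  rw [swap_gen (swap_tab (7, 8, [(9, -2, 1, 1), (10, -3, 2, 1), (11, 3, 1, 2)]) (by simp)) t u]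
  simp only [List.map_cons, List.map_nil, List.prod_cons, List.prod_nil, mul_one]
  rw [← mul_assoc (X 9 _)]
  push_cast
  ring_nf

lemma s76 (t y : F) : X 7 t * X 6 y = X 6 y * X 7 t *
    (X 8 (-(y * t)) * X 9 (-(y * t ^ 2)) * X 10 (y * t ^ 3) * X 11 (-(2 * y ^ 2 * t ^ 3))) := by
  rw [swap_gen (swap_tab (6, 7, [(8, 1, 1, 1), (9, 1, 1, 2), (10, -1, 1, 3), (11, -2, 2, 3)])
    (by simp)) y t]
  simp only [List.map_cons, List.map_nil, List.prod_cons, List.prod_nil, mul_one]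
  simp only [mul_assoc]
  push_cast
  ring_nf

lemma s67 (y t : F) : X 6 y * X 7 t = X 7 t * X 6 y *
    (X 8 (t * y) * X 9 (t ^ 2 * y) * X 10 (-(t ^ 3 * y)) * X 11 (-(t ^ 3 * y ^ 2))) := by
  rw [swap_gen (swap_tab (7, 6, [(8, -1, 1, 1), (9, 1, 2, 1), (10, 1, 3, 1), (11, 1, 3, 2)])
    (by simp)) t y]
  simp only [List.map_cons, List.map_nil, List.prod_cons, List.prod_nil, mul_one]
  simp only [mul_assoc]
  push_cast
  ring_nf

lemma cart_tab : ∀ p ∈ ([(4, -2, 1), (5, 3, -2), (6, -3, 2), (7, 2, -1), (8, -1, 1), (9, 1, 0),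
    (10, 3, -1), (11, 0, 1)] : List (ℕ × ℤ × ℤ)),
    p.1 < chevG2.nroots ∧ auxG2.cart 0 p.1 = p.2.1 ∧ auxG2.cart 1 p.1 = p.2.2 := by decide +kernel

lemma H_X {r : ℕ} {i j : ℤ}
    (h : r < chevG2.nroots ∧ auxG2.cart 0 r = i ∧ auxG2.cart 1 r = j) (a b : Fˣ) (t : F) :
    H a b * X r t = X r (((a ^ i * b ^ j : Fˣ) : F) * t) * H a b := by
  obtain ⟨hr, rfl, rfl⟩ := h
  apply Subtype.ext
  show tor chevG2 auxG2 (cv (a) (b)) * xG g₂ r t = xG g₂ r _ * tor chevG2 auxG2 (cv (a) (b))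
  rw [mul_inv_eq_iff_eq_mul.1 (tor_conj_xG g₂ (cv (a) (b)) hr t)]
  have : chi chevG2 auxG2 (cv (a) (b)) r = a ^ auxG2.cart 0 r * b ^ auxG2.cart 1 r := by
    show ∏ i : Fin 2, (cv (a) (b)) i ^ auxG2.cart i.val r = _
    rw [Fin.prod_univ_two]; rfl
  rw [this]

lemma H4 (a b : Fˣ) (t : F) : H a b * X 4 t = X 4 ((b / (a : F) ^ 2) * t) * H a b := by
  rw [H_X (cart_tab (4, -2, 1) (by simp))]; congr 3; simp [div_eq_mul_inv, mul_comm, zpow_two, sq]

lemma H5 (a b : Fˣ) (t : F) : H a b * X 5 t = X 5 (((a : F) ^ 3 / (b : F) ^ 2) * t) * H a b := by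
  rw [H_X (cart_tab (5, 3, -2) (by simp))]; congr 3; simp [div_eq_mul_inv, zpow_ofNat, sq]

lemma H6 (a b : Fˣ) (t : F) : H a b * X 6 t = X 6 (((b : F) ^ 2 / (a : F) ^ 3) * t) * H a b := by
  rw [H_X (cart_tab (6, -3, 2) (by simp))]
  congr 3; simp [div_eq_mul_inv, zpow_ofNat, mul_comm]

lemma H7 (a b : Fˣ) (t : F) : H a b * X 7 t = X 7 (((a : F) ^ 2 / b) * t) * H a b := by
  rw [H_X (cart_tab (7, 2, -1) (by simp))]; congr 3; simp [div_eq_mul_inv, zpow_ofNat]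

lemma H8 (a b : Fˣ) (t : F) : H a b * X 8 t = X 8 (((b : F) / a) * t) * H a b := by
  rw [H_X (cart_tab (8, -1, 1) (by simp))]; congr 3; simp [div_eq_mul_inv, mul_comm]

lemma H9 (a b : Fˣ) (t : F) : H a b * X 9 t = X 9 ((a : F) * t) * H a b := by
  rw [H_X (cart_tab (9, 1, 0) (by simp))]; simp

lemma H10 (a b : Fˣ) (t : F) : H a b * X 10 t = X 10 (((a : F) ^ 3 / b) * t) * H a b := by
  rw [H_X (cart_tab (10, 3, -1) (by simp))]; congr 3; simp [div_eq_mul_inv, zpow_ofNat]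

lemma H11 (a b : Fˣ) (t : F) : H a b * X 11 t = X 11 ((b : F) * t) * H a b := by
  rw [H_X (cart_tab (11, 0, 1) (by simp))]; simp

lemma refl_tab : ∀ p ∈ ([(0, 4, 7, -1), (0, 6, 10, 1), (0, 7, 4, -1), (0, 8, 9, 1), (0, 9, 8, -1),
    (0, 10, 6, -1), (0, 11, 11, 1), (1, 5, 6, -1), (1, 6, 5, -1), (1, 7, 8, 1), (1, 8, 7, -1),
    (1, 9, 9, 1), (1, 10, 11, 1), (1, 11, 10, -1)] : List (ℕ × ℕ × ℕ × ℤ)),
    p.1 < chevG2.rank ∧ p.2.1 < chevG2.nroots ∧ auxG2.refl p.1 p.2.1 = p.2.2.1 ∧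
      auxG2.eta p.1 p.2.1 = p.2.2.2 := by decide +kernel

lemma n_move {i r s : ℕ} {z : ℤ} {n : GG F} (hn : (n : GL chevG2.Idx F) = nS F g₂ i)
    (h : i < chevG2.rank ∧ r < chevG2.nroots ∧ auxG2.refl i r = s ∧ auxG2.eta i r = z) (t : F) :
    n * X r t = X s ((z : F) * t) * n := by
  obtain ⟨h1, h2, rfl, rfl⟩ := h
  apply Subtype.ext
  show (n : GL chevG2.Idx F) * xG g₂ r t = xG g₂ _ _ * (n : GL chevG2.Idx F)
  rw [hn, ← nS_conj_xG g₂ h1 h2 t, inv_mul_cancel_right]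

lemma n0_4 (t : F) : n0 * X 4 t = X 7 (-t) * n0 := by
  simpa using n_move (n := (n0 : GG F)) rfl (refl_tab (0, 4, 7, -1) (by simp)) t
lemma n0_6 (t : F) : n0 * X 6 t = X 10 t * n0 := by
  simpa using n_move (n := (n0 : GG F)) rfl (refl_tab (0, 6, 10, 1) (by simp)) t
lemma n0_7 (t : F) : n0 * X 7 t = X 4 (-t) * n0 := by
  simpa using n_move (n := (n0 : GG F)) rfl (refl_tab (0, 7, 4, -1) (by simp)) t
lemma n0_8 (t : F) : n0 * X 8 t = X 9 t * n0 := by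
  simpa using n_move (n := (n0 : GG F)) rfl (refl_tab (0, 8, 9, 1) (by simp)) t
lemma n0_9 (t : F) : n0 * X 9 t = X 8 (-t) * n0 := by
  simpa using n_move (n := (n0 : GG F)) rfl (refl_tab (0, 9, 8, -1) (by simp)) t
lemma n0_10 (t : F) : n0 * X 10 t = X 6 (-t) * n0 := by
  simpa using n_move (n := (n0 : GG F)) rfl (refl_tab (0, 10, 6, -1) (by simp)) t
lemma n0_11 (t : F) : n0 * X 11 t = X 11 t * n0 := by
  simpa using n_move (n := (n0 : GG F)) rfl (refl_tab (0, 11, 11, 1) (by simp)) t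
lemma n1_5 (t : F) : n1 * X 5 t = X 6 (-t) * n1 := by
  simpa using n_move (n := (n1 : GG F)) rfl (refl_tab (1, 5, 6, -1) (by simp)) t
lemma n1_6 (t : F) : n1 * X 6 t = X 5 (-t) * n1 := by
  simpa using n_move (n := (n1 : GG F)) rfl (refl_tab (1, 6, 5, -1) (by simp)) t
lemma n1_7 (t : F) : n1 * X 7 t = X 8 t * n1 := by
  simpa using n_move (n := (n1 : GG F)) rfl (refl_tab (1, 7, 8, 1) (by simp)) t
lemma n1_8 (t : F) : n1 * X 8 t = X 7 (-t) * n1 := by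
  simpa using n_move (n := (n1 : GG F)) rfl (refl_tab (1, 8, 7, -1) (by simp)) t
lemma n1_9 (t : F) : n1 * X 9 t = X 9 t * n1 := by
  simpa using n_move (n := (n1 : GG F)) rfl (refl_tab (1, 9, 9, 1) (by simp)) t
lemma n1_10 (t : F) : n1 * X 10 t = X 11 t * n1 := by
  simpa using n_move (n := (n1 : GG F)) rfl (refl_tab (1, 10, 11, 1) (by simp)) t
lemma n1_11 (t : F) : n1 * X 11 t = X 10 (-t) * n1 := by
  simpa using n_move (n := (n1 : GG F)) rfl (refl_tab (1, 11, 10, -1) (by simp)) t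

lemma cart_simple_tab : auxG2.cart 0 7 = 2 ∧ auxG2.cart 1 7 = -1 ∧ auxG2.cart 0 6 = -3 ∧
    auxG2.cart 1 6 = 2 := by decide +kernel

lemma n0_H (a b : Fˣ) : n0 * H a b = H (b / a) b * n0 := by
  apply Subtype.ext
  show nS F g₂ 0 * tor chevG2 auxG2 (cv a b) = tor chevG2 auxG2 (cv (b / a) b) * nS F g₂ 0
  refine (mul_inv_eq_iff_eq_mul.1 (nS_conj_tor g₂ (by decide) (cv a b))).trans ?_
  congr 2
  have e : ∏ j : Fin chevG2.rank, cv a b j ^ (-auxG2.cart j.val (chevG2.simple 0)) = a⁻¹ ^ 2 * b := by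
    show ∏ j : Fin 2, cv a b j ^ (-auxG2.cart j.val (chevG2.simple 0)) = _
    rw [simple_idx.1, Fin.prod_univ_two]
    simp [cart_simple_tab.1, cart_simple_tab.2.1, cv_zero', cv_one', inv_pow, zpow_ofNat]
  rw [e]
  funext i
  rw [Pi.mul_apply]
  by_cases hi : i.val = 0
  · rw [show i = (⟨0, by decide⟩ : Fin chevG2.rank) from Fin.ext hi, Pi.mulSingle_eq_same]
    refine Units.ext ?_
    simp [cv, div_eq_mul_inv]; field_simp
  · rw [Pi.mulSingle_eq_of_ne (fun h => hi (congrArg Fin.val h))]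
    simp [cv, hi]

lemma n1_H (a b : Fˣ) : n1 * H a b = H a (a ^ 3 / b) * n1 := by
  apply Subtype.ext
  show nS F g₂ 1 * tor chevG2 auxG2 (cv a b) = tor chevG2 auxG2 (cv a (a ^ 3 / b)) * nS F g₂ 1
  refine (mul_inv_eq_iff_eq_mul.1 (nS_conj_tor g₂ (by decide) (cv a b))).trans ?_
  congr 2
  have e : ∏ j : Fin chevG2.rank, cv a b j ^ (-auxG2.cart j.val (chevG2.simple 1)) =
      a ^ 3 * b⁻¹ ^ 2 := by
    show ∏ j : Fin 2, cv a b j ^ (-auxG2.cart j.val (chevG2.simple 1)) = _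
    rw [simple_idx.2.1, Fin.prod_univ_two]
    simp [cart_simple_tab.2.2.1, cart_simple_tab.2.2.2, cv_zero', cv_one', inv_pow, zpow_ofNat]
  rw [e]
  funext i
  rw [Pi.mul_apply]
  by_cases hi : i.val = 0
  · rw [Pi.mulSingle_eq_of_ne (fun h => by simpa [hi] using congrArg Fin.val h)]
    simp [cv, hi]
  · rw [show i = (⟨1, by decide⟩ : Fin chevG2.rank) from Fin.ext (by
      have : i.val < 2 := i.isLt
      show i.val = 1
      omega), Pi.mulSingle_eq_same]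
    refine Units.ext ?_
    simp [cv, div_eq_mul_inv]; field_simp

lemma hG_simple' (i : Fin chevG2.rank) (u : Fˣ) :
    hG g₂ (chevG2.simple i) (u : F) = tor chevG2 auxG2 (Pi.mulSingle i u) := hG_simple g₂ i u

lemma n0_def : (n0 : GG F) = X 7 1 * X 4 (-1) * X 7 1 := by
  apply Subtype.ext
  show nS F g₂ 0 = xG g₂ 7 1 * xG g₂ 4 (-1) * xG g₂ 7 1
  rw [nS, nG, simple_idx.1, simple_idx.2.2.1, inv_one]

lemma n1_def : (n1 : GG F) = X 6 1 * X 5 (-1) * X 6 1 := by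
  apply Subtype.ext
  show nS F g₂ 1 = xG g₂ 6 1 * xG g₂ 5 (-1) * xG g₂ 6 1
  rw [nS, nG, simple_idx.2.1, simple_idx.2.2.2, inv_one]

lemma n0_sq : (n0 : GG F) * n0 = H (-1) 1 := by
  apply Subtype.ext
  show nS F g₂ 0 * nS F g₂ 0 = tor chevG2 auxG2 (cv ((-1 : Fˣ)) (1))
  rw [nS_sq g₂ (by decide), show (-1 : F) = ((-1 : Fˣ) : F) by simp,
    hG_simple' (⟨0, by decide⟩ : Fin chevG2.rank) (-1), ← map_inv]
  congr 1
  funext i
  change Fin 2 at i
  show ((Pi.mulSingle (⟨0, by decide⟩ : Fin 2) (-1 : Fˣ))⁻¹ : Fin 2 → Fˣ) i = _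
  fin_cases i <;> simp [cv_zero', cv_one']

lemma n1_sq : (n1 : GG F) * n1 = H 1 (-1) := by
  apply Subtype.ext
  show nS F g₂ 1 * nS F g₂ 1 = tor chevG2 auxG2 (cv ((1 : Fˣ)) (-1))
  rw [nS_sq g₂ (by decide), show (-1 : F) = ((-1 : Fˣ) : F) by simp,
    hG_simple' (⟨1, by decide⟩ : Fin chevG2.rank) (-1), ← map_inv]
  congr 1
  funext i
  change Fin 2 at i
  show ((Pi.mulSingle (⟨1, by decide⟩ : Fin 2) (-1 : Fˣ))⁻¹ : Fin 2 → Fˣ) i = _
  fin_cases i <;> simp [cv_zero', cv_one']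

/-- the opposite root element inside the big cell of its rank one group -/
lemma X5_eq {w : F} (hw : w ≠ 0) :
    X 5 w = X 6 w⁻¹ * (H 1 (Units.mk0 (-w⁻¹) (neg_ne_zero.2 (inv_ne_zero hw))) * n1) * X 6 w⁻¹ := by
  set u := Units.mk0 (-w⁻¹) (neg_ne_zero.2 (inv_ne_zero hw))
  apply Subtype.ext
  show xG g₂ 5 w = xG g₂ 6 w⁻¹ * (tor chevG2 auxG2 (cv ((1 : Fˣ)) (u)) * nS F g₂ 1) * xG g₂ 6 w⁻¹
  have e : tor chevG2 auxG2 (cv ((1 : Fˣ)) (u)) = hG g₂ 6 (u : F) := by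
    rw [show (6 : ℕ) = chevG2.simple ((⟨1, by decide⟩ : Fin chevG2.rank) : ℕ) from simple_idx.2.1.symm,
      hG_simple']
    congr 1
    funext i
    change Fin 2 at i
    show _ = (Pi.mulSingle (⟨1, by decide⟩ : Fin 2) u : Fin 2 → Fˣ) i
    fin_cases i <;> simp [cv_zero', cv_one']
  have e2 : (nG g₂ 6 (-1 : F))⁻¹ = nS F g₂ 1 := by
    rw [nG_neg g₂ (by decide), inv_inv, nS, simple_idx.2.1]
  rw [e, hG, mul_assoc (nG g₂ 6 _), ← e2, mul_inv_cancel, mul_one, nG, simple_idx.2.2.2,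
    show (u : F) = -w⁻¹ from rfl, inv_neg, inv_inv, neg_neg, ← xG_inv g₂ 6 w⁻¹]
  group

/-- generators -/
lemma eq_top_of_mem {K : Subgroup (GG F)} (h6 : ∀ t, X 6 t ∈ K) (h7 : ∀ t, X 7 t ∈ K)
    (hn0 : n0 ∈ K) (hn1 : n1 ∈ K) : K = ⊤ := by
  have all : ∀ r < chevG2.nroots, ∀ t : F, X r t ∈ K := by
    refine root_induction g₂ (fun j hj _ t => ?_) ?_
    · change j < 2 at hj
      interval_cases j
      · rw [simple_idx.1]; exact h7 t
      · rw [simple_idx.2.1]; exact h6 t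
    · intro i hi r hr ih t
      have hi' : i < 2 := hi
      have key : ∀ n : GG F, (n : GL chevG2.Idx F) = nS F g₂ i → n ∈ K →
          X (auxG2.refl i r) t ∈ K := fun n hn hnK => by
        have := mul_mem (mul_mem hnK (ih ((auxG2.eta i r : F) * t))) (inv_mem hnK)
        convert this using 1
        apply Subtype.ext
        push_cast
        rw [X_val, X_val, hn, nS_conj_xG g₂ hi hr, ← mul_assoc, eta_sq g₂ hi hr, one_mul]
      first
      | (interval_cases i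
         · exact key n0 rfl hn0
         · exact key n1 rfl hn1)
  rw [eq_top_iff]
  rintro ⟨y, hy⟩ -
  have hle : chevG2.group F ≤ K.map (chevG2.group F).subtype := by
    conv_lhs => rw [group_eq g₂]
    refine (Subgroup.closure_le _).2 ?_
    rintro z ⟨r, t, hr, rfl⟩
    exact ⟨_, all r hr t, rfl⟩
  obtain ⟨z, hz, e⟩ := hle hy
  rwa [show (⟨y, hy⟩ : GG F) = z from Subtype.ext e.symm]

end CfsgLib.CharsMore.G2MinDeg
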