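import Cfsg.Agent.Lib.CharsMore.G2MinDeg.Proj

/-!
# Traces on projections that are moved or are of rank one
-/

set_option autoImplicit false

namespace CfsgLib.CharsMore.G2MinDeg

open Module Finset CfsgLib.CharsMore.D4MinDeg

variable {G V : Type*} [Group G] [AddCommGroup V] [Module ℂ V] (ρ : Representation ℂ G V)

/-- nothing of a moved projection stays -/
lemma trace_moved {g : G} {R R' : Module.End ℂ V} (hR : IsIdempotentElem R)
    (h : ρ g * R = R' * ρ g) (h0 : R * R' = 0) : LinearMap.trace ℂ V (ρ g * R) = 0 := by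
  calc LinearMap.trace ℂ V (ρ g * R) = LinearMap.trace ℂ V (ρ g * R * R) := by
        rw [mul_assoc, hR.eq]
    _ = LinearMap.trace ℂ V (R * (ρ g * R)) := LinearMap.trace_mul_comm ℂ _ _
    _ = 0 := by rw [h, ← mul_assoc, h0, zero_mul, map_zero]

/-- the average of a family over a projection that all non-zero members move -/
lemma trace_avg {M : Type*} [AddCommGroup M] [Fintype M] (e : AddChar M G) {R : Module.End ℂ V}
    (hmove : ∀ m, m ≠ 0 → LinearMap.trace ℂ V (ρ (e m) * R) = 0) (χ : AddChar M ℂ) :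
    LinearMap.trace ℂ V (wp ρ e χ * R) = (Fintype.card M : ℂ)⁻¹ * LinearMap.trace ℂ V R := by
  rw [wp, smul_mul_assoc, map_smul, sum_mul, map_sum, smul_eq_mul,
    sum_eq_single (0 : M) (fun m _ hm => by rw [smul_mul_assoc, map_smul, hmove m hm, smul_zero])
      (by simp)]
  simp

variable [FiniteDimensional ℂ V] {R : Module.End ℂ V}

lemma line_scalar (hR : IsIdempotentElem R) (h1 : LinearMap.trace ℂ V R = 1) {v w : V} (hv : R v = v)
    (hw : R w = w) (hv0 : v ≠ 0) : ∃ c : ℂ, c • v = w := by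
  have h2 : finrank ℂ (LinearMap.range R) = 1 := by
    have := LinearMap.IsProj.trace (LinearMap.IsIdempotentElem.isProj_range _ hR)
    rw [h1] at this
    exact_mod_cast this.symm
  obtain ⟨c, hc⟩ := exists_smul_eq_of_finrank_eq_one h2
    (x := (⟨v, v, hv⟩ : LinearMap.range R)) (fun e => hv0 (congrArg Subtype.val e)) ⟨w, w, hw⟩
  exact ⟨c, congrArg Subtype.val hc⟩

/-- an operator preserving a line acts on it by its trace -/
lemma line_eigen (hR : IsIdempotentElem R) (h1 : LinearMap.trace ℂ V R = 1) {T : Module.End ℂ V}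
    (hT : Commute T R) {v : V} (hv : R v = v) :
    T v = LinearMap.trace ℂ V (T * R) • v := by
  rcases eq_or_ne v 0 with rfl | hv0
  · simp
  obtain ⟨c, hc⟩ := line_scalar hR h1 hv
    (show R (T v) = T v by rw [← Module.End.mul_apply, ← hT.eq, Module.End.mul_apply, hv]) hv0
  suffices T * R = c • R by rw [this, map_smul, h1, smul_eq_mul, mul_one, hc]
  refine LinearMap.ext fun x => ?_
  obtain ⟨a, ha⟩ := line_scalar hR h1 hv
    (show R (R x) = R x by rw [← Module.End.mul_apply, hR.eq]) hv0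
  rw [Module.End.mul_apply, LinearMap.smul_apply, ← ha, map_smul, ← hc, smul_comm]

lemma trace_conj_commute {g h : G} {R' : Module.End ℂ V} (hgh : Commute g h)
    (hgR : ρ g * R = R' * ρ g) :
    LinearMap.trace ℂ V (ρ h * R') = LinearMap.trace ℂ V (ρ h * R) := by
  have h1 : ρ g⁻¹ * ρ g = 1 := by rw [← map_mul, inv_mul_cancel, map_one]
  have h2 : ρ g * ρ g⁻¹ = 1 := by rw [← map_mul, mul_inv_cancel, map_one]
  calc LinearMap.trace ℂ V (ρ h * R')
      = LinearMap.trace ℂ V (ρ h * (R' * ρ g) * ρ g⁻¹) := by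
        rw [mul_assoc, mul_assoc R', h2, mul_one]
    _ = LinearMap.trace ℂ V (ρ g * (ρ h * R) * ρ g⁻¹) := by
        rw [← hgR, ← mul_assoc (ρ h), ← (hgh.map ρ).eq, mul_assoc (ρ g)]
    _ = _ := by rw [LinearMap.trace_mul_comm, ← mul_assoc, h1, one_mul]

end CfsgLib.CharsMore.G2MinDeg
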