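import Cfsg.Agent.Lib.CharsMore.G2MinDeg.Chars
import Cfsg.Agent.Lib.CharsMore.G2MinDeg.Line
import Cfsg.Agent.Lib.CharsMore.G2MinDeg.Group
import Cfsg.Agent.Lib.Chev.Simple
import Cfsg.Agent.Lib.Chev.OrderTypes
import Cfsg.Agent.Lib.Chars.Integral

/-!
# General facts about representations of the groups of type G2
-/

set_option autoImplicit false
set_option maxRecDepth 100000

namespace CfsgLib.CharsMore.G2MinDeg

open Cfsg.Lie CfsgLib.Chev Module CfsgLib.CharsMore.D4MinDeg

variable {F : Type*} [Field F] [Fintype F]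

instance finite_GG : Finite (GG F) := by
  haveI : Finite (GL chevG2.Idx F) := finite_GL
  infer_instance

theorem card_GG : Nat.card (GG F) =
    Fintype.card F ^ 6 * ((Fintype.card F ^ 2 - 1) * (Fintype.card F ^ 6 - 1)) := by
  have h := order_formula (F := F) stdG2 weylOKG2 smithG2 poinG2 rfl
  have e : (∏ i : Fin chevG2.rank, Nat.gcd ((![1, 1] : Fin 2 → ℕ) i) (Fintype.card F - 1)) = 1 :=
    Finset.prod_eq_one fun i _ => by
      change Fin 2 at i
      fin_cases i <;> simp
  rw [e, one_mul, show chevG2.nroots / 2 = 6 from rfl] at h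
  simpa using h

theorem simple_GG (hq : 3 ≤ Fintype.card F) : IsSimpleGroup (GG F) := by
  classical
  obtain ⟨a, ha0, ha1⟩ : ∃ a : F, a ≠ 0 ∧ a ≠ 1 := by
    by_contra h
    have hs : (Finset.univ : Finset F) ⊆ {0, 1} := fun a _ => by
      by_contra ha
      simp only [Finset.mem_insert, Finset.mem_singleton, not_or] at ha
      exact h ⟨a, ha⟩
    have := (Finset.card_le_card hs).trans Finset.card_le_two
    rw [Finset.card_univ] at this
    omega
  exact (simple_group stdG2 (by decide) conn_G2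
    (perfect_of_perfB stdG2 perfB_G2 ⟨a, ha0, ha1⟩)).1

variable {V : Type*} [AddCommGroup V] [Module ℂ V] [FiniteDimensional ℂ V]
  (ρ : Representation ℂ (GG F) V) [ρ.IsIrreducible]

/-- no line is invariant -/
theorem no_line (hk : 2 ≤ finrank ℂ V) {v : V} (hv : v ≠ 0)
    (h : ∀ g, ∃ c : ℂ, c • v = ρ g v) : False := by
  let L : Submodule ℂ V := Submodule.span ℂ {v}
  have h1 : finrank ℂ L = 1 := finrank_span_singleton hv
  let L' : Subrepresentation ρ := ⟨L, fun g x hx => by
    obtain ⟨a, rfl⟩ := Submodule.mem_span_singleton.1 hx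
    obtain ⟨c, hc⟩ := h g
    rw [map_smul, ← hc, smul_smul]
    exact Submodule.mem_span_singleton.2 ⟨_, rfl⟩⟩
  rcases IsSimpleOrder.eq_bot_or_eq_top L' with e | e
  · have e' : L = ⊥ := congrArg Subrepresentation.toSubmodule e
    rw [e', finrank_bot] at h1
    omega
  · have e' : L = ⊤ := congrArg Subrepresentation.toSubmodule e
    rw [e', finrank_top] at h1
    omega

/-- no non-trivial element acts trivially -/
theorem eq_one_of_trivial (hq : 3 ≤ Fintype.card F) (hk : 2 ≤ finrank ℂ V) {g : GG F}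
    (hg : ρ g = 1) : g = 1 := by
  haveI := simple_GG hq
  rcases (MonoidHom.normal_ker ρ).eq_bot_or_eq_top with h | h
  · have hm : g ∈ ρ.ker := hg
    rwa [h, Subgroup.mem_bot] at hm
  · exfalso
    haveI : Nontrivial V := nontrivial_of_finrank_pos (R := ℂ) (by omega)
    obtain ⟨v, hv⟩ := exists_ne (0 : V)
    refine no_line ρ hk hv fun g => ⟨1, ?_⟩
    rw [one_smul, show ρ g = 1 from MonoidHom.mem_ker.1 (h ▸ Subgroup.mem_top g)]
    rfl

omit [Fintype F] in
theorem X_one_ne (r : ℕ) (hr : r < chevG2.nroots) : (X r (1 : F) : GG F) ≠ 1 := fun e =>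
  one_ne_zero (xG_eq_one stdG2 hr (congrArg Subtype.val e))

include ρ in
theorem dvd_order : finrank ℂ V ∣
    Fintype.card F ^ 6 * ((Fintype.card F ^ 2 - 1) * (Fintype.card F ^ 6 - 1)) := by
  rw [← card_GG]
  exact CfsgLib.Chars.finrank_dvd_card ρ

end CfsgLib.CharsMore.G2MinDeg
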