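import Cfsg.Agent.Lib.CharsMore.G2MinDeg.NotThree

/-!
# The vector fixed by a maximal unipotent subgroup in degree `q³`
-/

set_option autoImplicit false
set_option maxRecDepth 100000

namespace CfsgLib.CharsMore.G2MinDeg

open Cfsg.Lie CfsgLib.Chev Module CfsgLib.CharsMore.D4MinDeg

variable {F : Type*} [Field F]

section Moves

/-- fixed by the unipotent radical of the parabolic of the short simple root -/
def FixQ {V : Type*} [AddCommGroup V] [Module ℂ V] (τ : Representation ℂ (GG F) V) (w : V) : Prop :=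
  ∀ r ∈ ([6, 8, 9, 10, 11] : List ℕ), ∀ t, τ (X r t) w = w

variable {V : Type*} [AddCommGroup V] [Module ℂ V] {τ : Representation ℂ (GG F) V} {w : V}

lemma FixQ.six (h : FixQ τ w) (t : F) : τ (X 6 t) w = w := h 6 (by simp) t
lemma FixQ.eight (h : FixQ τ w) (t : F) : τ (X 8 t) w = w := h 8 (by simp) t
lemma FixQ.nine (h : FixQ τ w) (t : F) : τ (X 9 t) w = w := h 9 (by simp) t
lemma FixQ.ten (h : FixQ τ w) (t : F) : τ (X 10 t) w = w := h 10 (by simp) t
lemma FixQ.eleven (h : FixQ τ w) (t : F) : τ (X 11 t) w = w := h 11 (by simp) t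

lemma FixQ.torus (h : FixQ τ w) (a b : Fˣ) : FixQ τ (τ (H a b) w) := by
  have key : ∀ (r : ℕ) (k : F), k ≠ 0 → (∀ t, H a b * X r t = X r (k * t) * H a b) →
      (∀ t, τ (X r t) w = w) → ∀ t, τ (X r t) (τ (H a b) w) = τ (H a b) w := by
    intro r k hk hH hr t
    obtain ⟨t, rfl⟩ : ∃ t', k * t' = t := ⟨t / k, mul_div_cancel₀ _ hk⟩
    rw [← apply_mul_apply, ← hH, apply_mul_apply, hr]
  intro r hr
  fin_cases hr
  · exact key 6 _ (by simp) (H6 a b) h.six
  · exact key 8 _ (by simp) (H8 a b) h.eight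
  · exact key 9 _ (by simp) (H9 a b) h.nine
  · exact key 10 _ (by simp) (H10 a b) h.ten
  · exact key 11 _ (by simp) (H11 a b) h.eleven

lemma FixQ.seven (h : FixQ τ w) (s : F) : FixQ τ (τ (X 7 s) w) := by
  intro r hr t
  fin_cases hr
  · rw [← apply_mul_apply, s67, apply_mul_apply, apply_mul_apply, apply_mul_apply, apply_mul_apply,
      apply_mul_apply, h.eleven, h.ten, h.nine, h.eight, h.six]
  · rw [← apply_mul_apply, s87, apply_mul_apply, apply_mul_apply, apply_mul_apply, apply_mul_apply,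
      h.eleven, h.ten, h.nine, h.eight]
  · rw [← apply_mul_apply, s97, apply_mul_apply, apply_mul_apply, h.ten, h.nine]
  · rw [← apply_mul_apply, ← (c7_10 s t).eq, apply_mul_apply, h.ten]
  · rw [← apply_mul_apply, ← (c7_11 s t).eq, apply_mul_apply, h.eleven]

lemma FixQ.weyl (h : FixQ τ w) : FixQ τ (τ n0 w) := by
  intro r hr t
  fin_cases hr
  · rw [← apply_mul_apply, show X 6 t * n0 = n0 * X 10 (-t) by rw [n0_10, neg_neg], apply_mul_apply,
      h.ten]
  · rw [← apply_mul_apply, show X 8 t * n0 = n0 * X 9 (-t) by rw [n0_9, neg_neg], apply_mul_apply,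
      h.nine]
  · rw [← apply_mul_apply, ← n0_8, apply_mul_apply, h.eight]
  · rw [← apply_mul_apply, ← n0_6, apply_mul_apply, h.six]
  · rw [← apply_mul_apply, ← n0_11, apply_mul_apply, h.eleven]

end Moves

variable [Fintype F] {V : Type*} [AddCommGroup V] [Module ℂ V] [FiniteDimensional ℂ V]
  (τ : Representation ℂ (GG F) V)

omit [FiniteDimensional ℂ V] in
lemma low_X8 (s : F) : Commute (τ (X 8 s)) (wp τ e3 (w3 F 0 0 0)) :=
  wp_conj τ e3 (f := Equiv.ofBijective _ (Finite.injective_iff_bijective.1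
    (inj_shear fun p => 3 * p.1 * s))) (fun p => X8_e3 s p.1 p.2.1 p.2.2)
    fun p => by simp [w3_apply]

omit [FiniteDimensional ℂ V] in
lemma low_H (a b : Fˣ) : Commute (τ (H a b)) (wp τ e3 (w3 F 0 0 0)) :=
  wp_conj τ e3 (f := Equiv.ofBijective _ (Finite.injective_iff_bijective.1
    (show Function.Injective fun p : F × F × F =>
      ((b : F) * p.1, (a : F) * p.2.1, (a : F) ^ 3 / b * p.2.2) from
      fun p n h => by simpa [Prod.ext_iff] using h)))
    (fun p => H_e3 a b p.1 p.2.1 p.2.2) fun p => by simp [w3_apply]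

/-- the weights of `X₆` inside the trivial weight -/
noncomputable def P6 (κ : F) : Module.End ℂ V := wp τ e3 (w3 F 0 0 0) * wp τ (X 6) (w1 F κ)

lemma P6_idem (κ : F) : IsIdempotentElem (P6 τ κ) :=
  idem_mul_wp τ (X 6) (wp_mul_self τ e3 _) (commute_low τ) _

omit [FiniteDimensional ℂ V] in
lemma P6_X8 (κ s : F) : Commute (P6 τ κ) (τ (X 8 s)) :=
  ((low_X8 τ s).symm).mul_left
    ((commute_wp_of τ (X 6) (fun m => (c6_8 m s).symm) _).symm)

omit [FiniteDimensional ℂ V] in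
lemma w1_scale (a y : F) {k : F} (hk : k ≠ 0) : w1 F (a / k) (k * y) = w1 F a y := by
  simp only [w1_apply]; congr 1; field_simp

omit [FiniteDimensional ℂ V] in
lemma P6_H (a b : Fˣ) (κ : F) :
    τ (H a b) * P6 τ κ = P6 τ (κ / ((b : F) ^ 2 / (a : F) ^ 3)) * τ (H a b) := by
  have hk : (b : F) ^ 2 / (a : F) ^ 3 ≠ 0 := by simp
  rw [P6, P6, ← mul_assoc, (low_H τ a b).eq, mul_assoc, mul_assoc,
    wp_conj τ (X 6) (f := Equiv.mulLeft₀ _ hk) (H6 a b) (χ := w1 F κ)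
      (χ' := w1 F (κ / ((b : F) ^ 2 / (a : F) ^ 3))) fun y => w1_scale κ y hk]

/-- the multiplicities -/
noncomputable def m68 (κ ν : F) : ℕ := mi τ (X 8) (P6 τ κ) (w1 F ν)

lemma m68_scale (a b : Fˣ) (κ ν : F) :
    m68 τ κ ν = m68 τ (κ / ((b : F) ^ 2 / (a : F) ^ 3)) (ν / ((b : F) / a)) :=
  mi_conj τ (X 8) (P6_idem τ κ) (P6_X8 τ κ) (f := Equiv.mulLeft₀ ((b : F) / a) (by simp))
    (P6_idem τ _) (P6_X8 τ _) (P6_H τ a b κ) (H8 a b) fun y => w1_scale ν y (by simp)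

lemma sum_m68 : ∑ κ, ∑ ν, m68 τ κ ν = wA τ 0 0 0 := by
  have hs := sum_mi τ (X 6) (wp_mul_self τ e3 (w3 F 0 0 0)) (commute_low τ)
  rw [trace_wp] at hs
  rw [show wA τ 0 0 0 = mult τ e3 (w3 F 0 0 0) from rfl, ← Nat.cast_injective hs,
    ← (Equiv.ofBijective _ (w1_bijective (F := F))).sum_comp]
  refine Finset.sum_congr rfl fun κ _ => ?_
  have h2 := sum_mi τ (X 8) (P6_idem τ κ) (P6_X8 τ κ)
  rw [P6, trace_mul_wp τ (X 6) (wp_mul_self τ e3 _) (commute_low τ),
    ← (Equiv.ofBijective _ (w1_bijective (F := F))).sum_comp] at h2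
  exact Nat.cast_injective h2

variable (h3 : (3 : F) ≠ 0) (hq : 5 ≤ Fintype.card F) (hm : wA τ 1 0 0 = 1)
  (h0 : wA τ 0 0 0 = Fintype.card F)
include h3 hq hm h0

lemma m68_zero : m68 τ 0 0 = 1 := by
  classical
  have hge : ∀ κ, κ ≠ 0 → 1 ≤ m68 τ κ 0 := fun κ hκ => by
    obtain ⟨u, hu, hwt, h8, h6, -⟩ := exists_low τ h3 hq hm hκ
    refine mi_pos τ (X 8) (P6_idem τ κ) (P6_X8 τ κ) hu ?_ fun s => ?_
    · rw [P6, Module.End.mul_apply, wp_apply τ (X 6) (χ := w1 F κ) h6, wp_apply τ e3 hwt]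
    · rw [h8, w1_apply, zero_mul, AddChar.map_zero_eq_one, one_smul]
  have hrow : ∀ κ, κ ≠ 0 → m68 τ κ 0 = m68 τ 1 0 := fun κ hκ => by
    rw [m68_scale τ (Units.mk0 κ hκ) (Units.mk0 κ hκ ^ 2) κ 0, zero_div]
    congr 1
    push_cast [Units.val_mk0]
    field_simp
  -- the columns with non-trivial `X₈`
  have hcol : ∀ ν, ν ≠ 0 → ∑ κ, m68 τ κ ν = ∑ κ, m68 τ κ 1 := fun ν hν => by
    refine Fintype.sum_equiv (Equiv.divRight₀ (ν ^ 2) (pow_ne_zero 2 hν)) _ _ fun κ => ?_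
    rw [m68_scale τ 1 (Units.mk0 ν hν) κ ν]
    simp [div_self hν]
  have hsum := sum_m68 τ
  rw [h0, Finset.sum_comm, sum_two _ _ hcol, sum_two _ _ hrow, smul_eq_mul, smul_eq_mul] at hsum
  have h1 := hge 1 one_ne_zero
  obtain ⟨p, hp⟩ : ∃ p, Fintype.card F = p + 1 := ⟨Fintype.card F - 1, by omega⟩
  simp only [hp, Nat.add_sub_cancel] at hsum
  set R := ∑ κ, m68 τ κ 1
  have e1 : p * 1 ≤ p * m68 τ 1 0 := Nat.mul_le_mul_left _ h1
  rcases Nat.eq_zero_or_pos R with hR | hR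
  · rw [hR, mul_zero, add_zero] at hsum
    by_cases hx : m68 τ 1 0 = 1
    · rw [hx, mul_one] at hsum; omega
    · have : p * 2 ≤ p * m68 τ 1 0 := Nat.mul_le_mul_left _ (by omega)
      omega
  · have : p * 1 ≤ p * R := Nat.mul_le_mul_left _ hR
    omega

/-- the vector -/
theorem exists_fixed : ∃ v, v ≠ 0 ∧ FixQ τ v ∧ (∀ t, τ (X 7 t) v = v) ∧ τ n0 v = v ∧
    (∀ a b, ∃ c : ℂ, c • v = τ (H a b) v) ∧ ∀ w, FixQ τ w → ∃ c : ℂ, c • v = w := by
  have hone := m68_zero τ h3 hq hm h0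
  set R := P6 τ 0 * wp τ (X 8) (w1 F 0)
  have hR : IsIdempotentElem R := idem_mul_wp τ (X 8) (P6_idem τ 0) (P6_X8 τ 0) _
  have htr : LinearMap.trace ℂ V R = 1 := by
    rw [trace_mul_wp τ (X 8) (P6_idem τ 0) (P6_X8 τ 0), show mi τ (X 8) (P6 τ 0) (w1 F 0) = 1 from hone,
      Nat.cast_one]
  obtain ⟨v, hv, hPv, h8⟩ := exists_mi τ (X 8) (P := P6 τ 0) (χ := w1 F 0)
    (by rw [show mi τ (X 8) (P6 τ 0) (w1 F 0) = 1 from hone]; exact one_ne_zero)
    (P6_idem τ 0) (P6_X8 τ 0)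
  have hfixR : ∀ w, FixQ τ w → R w = w := fun w hw => by
    rw [Module.End.mul_apply, wp_apply τ (X 8) (fun s => by
      rw [hw.eight, w1_apply, zero_mul, AddChar.map_zero_eq_one, one_smul]), P6,
      Module.End.mul_apply, wp_apply τ (X 6) (fun s => by
      rw [hw.six, w1_apply, zero_mul, AddChar.map_zero_eq_one, one_smul]),
      wp_apply τ e3 (fun m => by
        rw [show e3 m = X 11 m.1 * (X 9 m.2.1 * X 10 m.2.2) from rfl, apply_mul_apply,
          apply_mul_apply, hw.ten, hw.nine, hw.eleven]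
        simp [w3_apply])]
  have hE : IsWt τ e3 (w3 F 0 0 0) v := by
    rw [← hPv, P6, Module.End.mul_apply]; exact isWt_wp τ e3 _ _
  have hQ : FixQ τ v := by
    intro r hr t
    fin_cases hr
    · have h6 : IsWt τ (X 6) (w1 F 0) v := by
        rw [← hPv, P6, (wp_commute τ (X 6) (commute_low τ) _).eq, Module.End.mul_apply]
        exact isWt_wp τ (X 6) _ _
      rw [h6, w1_apply, zero_mul, AddChar.map_zero_eq_one, one_smul]
    · rw [h8, w1_apply, zero_mul, AddChar.map_zero_eq_one, one_smul]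
    · simpa [e3_apply, w3_apply] using hE (0, t, 0)
    · simpa [e3_apply, w3_apply] using hE (0, 0, t)
    · simpa [e3_apply, w3_apply] using hE (t, 0, 0)
  have huniq : ∀ w, FixQ τ w → ∃ c : ℂ, c • v = w := fun w hw =>
    line_scalar hR htr (hfixR v hQ) (hfixR w hw) hv
  obtain ⟨α, hα⟩ := exists_eigChar τ (X 7) hv fun s => huniq _ (hQ.seven s)
  obtain ⟨z, hz⟩ := exists_pow_ne_one (F := F) (n := 2) (by norm_num) (by omega)
  obtain ⟨c, hc⟩ := huniq _ (hQ.torus z 1)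
  have h7 : ∀ t, τ (X 7 t) v = v := fun t =>
    eigen_invariant τ hv hα hc.symm (k := (z : F) ^ 2)
      (fun e => hz 2 (by norm_num) le_rfl (Units.ext (by simpa using e)))
      (fun m => by rw [H7]; simp) t
  obtain ⟨ξ, hξ⟩ := huniq _ hQ.weyl
  have hξ0 : ξ ≠ 0 := by
    rintro rfl
    exact apply_ne_zero τ n0 hv (by rw [← hξ, zero_smul])
  have h4 : ∀ t, τ (X 4 t) v = v := fun t => by
    have e : τ (X 4 t) (τ n0 v) = τ n0 v := by
      rw [← apply_mul_apply, show X 4 t * n0 = n0 * X 7 (-t) by rw [n0_7, neg_neg], apply_mul_apply,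
        h7]
    rw [← hξ, map_smul] at e
    exact smul_right_injective V hξ0 e
  refine ⟨v, hv, hQ, h7, ?_, fun a b => huniq _ (hQ.torus a b), huniq⟩
  rw [n0_def, apply_mul_apply, apply_mul_apply, h7, h4, h7]

end CfsgLib.CharsMore.G2MinDeg
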