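import Cfsg.Agent.Lib.CharsMore.G2MinDeg.Fixed
import Cfsg.Agent.Lib.CharsMore.Intertwiners
import Cfsg.Agent.Lib.Chev.Orders
import Cfsg.Agent.Lib.Chev.Twist.FixBN

/-!
# Degree `q³` does not occur

A vector fixed by a maximal unipotent subgroup and by the Weyl element of the short root makes the
matrix coefficient `g ↦ φ (g v)` small outside six Bruhat cells, against the Schur relations.
-/

set_option autoImplicit false
set_option maxRecDepth 100000

namespace CfsgLib.CharsMore.G2MinDeg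

open Cfsg.Lie CfsgLib.Chev Module CfsgLib.CharsMore.D4MinDeg Finset

local notation "g₂" => stdG2.good

variable {F : Type*} [Field F]

section Usub

variable (F) in
/-- the maximal unipotent subgroup -/
noncomputable def Usub : Subgroup (GG F) :=
  (chevG2.posUnipotent F).subgroupOf (chevG2.group F)

lemma mem_Usub {u : GG F} : u ∈ Usub F ↔ (u : GL chevG2.Idx F) ∈ chevG2.posUnipotent F := Iff.rfl

lemma pos_tab : (∀ r ∈ ([6, 7, 8, 9, 10, 11] : List ℕ), r ∈ chevG2.posRoots) ∧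
    ∀ r ∈ chevG2.posRoots, r ∈ ([6, 7, 8, 9, 10, 11] : List ℕ) := by decide +kernel

lemma X_mem_Usub {r : ℕ} (hr : r ∈ ([6, 7, 8, 9, 10, 11] : List ℕ)) (t : F) : X r t ∈ Usub F :=
  xG_mem_posUnipotent g₂ (posRoots_mem.1 (pos_tab.1 r hr)) t

lemma Usub_le {K : Subgroup (GG F)} (h : ∀ r ∈ ([6, 7, 8, 9, 10, 11] : List ℕ), ∀ t, X r t ∈ K) :
    Usub F ≤ K := by
  rintro ⟨u, hu⟩ hU
  have hle : chevG2.posUnipotent F ≤ K.map (chevG2.group F).subtype := by
    rw [posUnipotent_eq g₂]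
    refine (Subgroup.closure_le _).2 ?_
    rintro z ⟨r, t, hr, rfl⟩
    exact ⟨_, h r (pos_tab.2 r (posRoots_mem.2 hr)) t, rfl⟩
  obtain ⟨z, hz, e⟩ := hle (mem_Usub.1 hU)
  rwa [show (⟨u, hu⟩ : GG F) = z from Subtype.ext e.symm]

lemma H_conj_Usub (a b : Fˣ) {u : GG F} (hu : u ∈ Usub F) : H a b * u * (H a b)⁻¹ ∈ Usub F :=
  tor_conj_posUnipotent g₂ (cv a b) hu

lemma tor_eq_H (c : Fin chevG2.rank → Fˣ) : ∃ a b, tor chevG2 auxG2 c = (H a b : GG F) := by
  refine ⟨c (0 : Fin 2), c (1 : Fin 2), congrArg _ (funext fun i => ?_)⟩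
  change Fin 2 at i
  fin_cases i <;> rfl

end Usub

section Words

/-- the Weyl element of a letter -/
noncomputable def nn (i : ℕ) : GG F := if i = 0 then n0 else n1

/-- the Weyl element of a word -/
noncomputable def wd (w : List ℕ) : GG F := (w.map nn).prod

lemma wd_cons (i : ℕ) (w : List ℕ) : wd (i :: w) = (nn i * wd w : GG F) := by simp [wd]

lemma wd_snoc (w : List ℕ) (i : ℕ) : wd (w ++ [i]) = (wd w * nn i : GG F) := by simp [wd]

lemma wd_val : ∀ {w : List ℕ}, Letters chevG2 w → ((wd w : GG F) : GL chevG2.Idx F) = nW F g₂ w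
  | [], _ => rfl
  | i :: w, h => by
    rw [wd_cons, Subgroup.coe_mul, wd_val h.tail, nW, nW, List.map_cons, List.prod_cons]
    congr 1
    have : i < 2 := h.head
    interval_cases i <;> rfl

lemma exists_nn_H (i : ℕ) (a b : Fˣ) : ∃ a' b', H a b * nn i = (nn i * H a' b' : GG F) := by
  rw [nn]
  split_ifs
  · exact ⟨b / a, b, by rw [n0_H, show b / (b / a) = a from div_div_cancel b a]⟩
  · exact ⟨a, a ^ 3 / b, by rw [n1_H, show a ^ 3 / (a ^ 3 / b) = b from div_div_cancel _ b]⟩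

lemma exists_nn_inv (i : ℕ) : ∃ a b, (nn i : GG F)⁻¹ = nn i * H a b := by
  rw [nn]
  split_ifs
  · refine ⟨-1, 1, inv_eq_of_mul_eq_one_right ?_⟩
    rw [← mul_assoc, n0_sq, H_mul, neg_one_mul, neg_neg, mul_one, H_one]
  · refine ⟨1, -1, inv_eq_of_mul_eq_one_right ?_⟩
    rw [← mul_assoc, n1_sq, H_mul, neg_one_mul, neg_neg, one_mul, H_one]

lemma exists_wd_inv : ∀ w : List ℕ, ∃ a b, (wd w : GG F)⁻¹ = wd w.reverse * H a b
  | [] => ⟨1, 1, by simp [wd, H_one]⟩
  | i :: w => by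
    obtain ⟨a, b, e⟩ := exists_wd_inv w
    obtain ⟨a₁, b₁, e₁⟩ := exists_nn_inv (F := F) i
    obtain ⟨a₂, b₂, e₂⟩ := exists_nn_H (F := F) i a b
    refine ⟨a₂ * a₁, b₂ * b₁, ?_⟩
    rw [wd_cons, mul_inv_rev, e, e₁, List.reverse_cons, wd_snoc, ← H_mul, ← mul_assoc,
      mul_assoc (wd _) (H a b), e₂]
    group

lemma nf_tab : (∀ w ∈ NF weylG2 chevG2.rank, w ∈ ([[], [0], [1], [1, 0], [0, 1], [0, 1, 0],
      [1, 0, 1], [1, 0, 1, 0], [0, 1, 0, 1], [0, 1, 0, 1, 0], [1, 0, 1, 0, 1],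
      [1, 0, 1, 0, 1, 0]] : List (List ℕ))) ∧
    ∀ p ∈ ([([], 0), ([0], 1), ([1], 1), ([1, 0], 2), ([0, 1], 2), ([0, 1, 0], 3)] :
      List (List ℕ × ℕ)), (chevG2.posRoots.toFinset.filter
        fun r => ¬ chevG2.IsPosRoot (wf auxG2 p.1 r)).card = p.2 := by decide +kernel

/-- the Bruhat decomposition by the twelve words -/
lemma exists_form (g : GG F) : ∃ w ∈ NF weylG2 chevG2.rank, ∃ u₁ ∈ Usub F, ∃ (a b : Fˣ), ∃ u₂ : GG F,
    (u₂ : GL chevG2.Idx F) ∈ UP F g₂ (toNeg chevG2 (wf auxG2 w)) ∧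
      g = u₁ * H a b * wd w * u₂ := by
  obtain ⟨bb, hbb, n, hn, σ, hσ, u, hu, e⟩ := normal_form_exists stdG2 g.2
  obtain ⟨v, hv, c, rfl⟩ := (mem_borel_iff g₂).1 hbb
  obtain ⟨wl, hwl, d, rfl⟩ := monomial_exists_word g₂ hn
  obtain ⟨w, hw, hs⟩ := exists_NF g₂ weylOKG2 hwl
  have hl : Letters chevG2 w := NF_letters weylOKG2 le_rfl hw
  obtain ⟨x, hx⟩ : nW F g₂ wl * (nW F g₂ w)⁻¹ ∈ (tor chevG2 auxG2).range := by
    rw [← diagonalSubgroup_eq g₂]
    exact diag_of_sameOn stdG2 (nW_mem g₂ hwl) (nW_mem g₂ hl) (nW_acts g₂ hwl) (nW_acts g₂ hl) hs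
  have hxw : nW F g₂ wl = tor chevG2 auxG2 x * nW F g₂ w := by rw [hx, inv_mul_cancel_right]
  obtain ⟨a, b, hab⟩ := tor_eq_H (c * d * x)
  have huG : u ∈ chevG2.group F :=
    borel_le_group g₂ (pos_le_borel (UP_toNeg_le g₂ _ hu))
  refine ⟨w, hw, ⟨v, borel_le_group g₂ (pos_le_borel hv)⟩, hv, a, b, ⟨u, huG⟩, ?_, Subtype.ext ?_⟩
  · rwa [UP_congr g₂ (P := toNeg chevG2 σ) (Q := toNeg chevG2 (wf auxG2 w)) fun r =>
      and_congr_right fun hr => by
        rw [hσ.unique ((acts_tor g₂ d).mul (nW_acts g₂ hwl)) hr.1, Function.comp_apply, id_eq,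
          hs r hr.1]] at hu
  · push_cast
    rw [wd_val hl, ← hab, e, hxw, map_mul, map_mul]
    group

end Words

section Coef

variable [Fintype F] {V : Type*} [AddCommGroup V] [Module ℂ V] (τ : Representation ℂ (GG F) V)

noncomputable instance : Fintype (GG F) := Fintype.ofFinite _

noncomputable instance : Fintype (Usub F) := Fintype.ofFinite _

/-- the average over the maximal unipotent subgroup -/
noncomputable def PU : Module.End ℂ V :=
  (Nat.card (Usub F) : ℂ)⁻¹ • ∑ u : Usub F, τ u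

lemma PU_left {u : GG F} (hu : u ∈ Usub F) (x : V) : τ u (PU τ x) = PU τ x := by
  simp only [PU, LinearMap.smul_apply, LinearMap.sum_apply, map_smul, map_sum, ← apply_mul_apply]
  exact congrArg _ (Equiv.sum_comp (Equiv.mulLeft (⟨u, hu⟩ : Usub F)) fun u' : Usub F => τ u' x)

lemma PU_right {u : GG F} (hu : u ∈ Usub F) (x : V) : PU τ (τ u x) = PU τ x := by
  simp only [PU, LinearMap.smul_apply, LinearMap.sum_apply, ← apply_mul_apply]
  exact congrArg _ (Equiv.sum_comp (Equiv.mulRight (⟨u, hu⟩ : Usub F)) fun u' : Usub F => τ u' x)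

lemma PU_fix {x : V} (h : ∀ u ∈ Usub F, τ u x = x) : PU τ x = x := by
  have : ∀ u : Usub F, τ u x = x := fun u => h u u.2
  simp only [PU, LinearMap.smul_apply, LinearMap.sum_apply, this, Finset.sum_const, Finset.card_univ,
    ← Nat.card_eq_fintype_card, ← Nat.cast_smul_eq_nsmul ℂ, smul_smul]
  rw [inv_mul_cancel₀ (Nat.cast_ne_zero.2 Nat.card_pos.ne'), one_smul]

lemma PU_H (a b : Fˣ) (x : V) : PU τ (τ (H a b) x) = τ (H a b) (PU τ x) := by
  simp only [PU, LinearMap.smul_apply, LinearMap.sum_apply, map_smul, map_sum, ← apply_mul_apply]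
  refine congrArg _ (Fintype.sum_equiv (Equiv.ofBijective
    (fun u : Usub F => (⟨(H a b)⁻¹ * u * H a b, ?_⟩ : Usub F))
    (Finite.injective_iff_bijective.1 fun u v e => Subtype.ext ?_)) _ _ fun u => ?_)
  · have hH : (H a b : GG F)⁻¹ = H a⁻¹ b⁻¹ :=
      inv_eq_of_mul_eq_one_right (by rw [H_mul, mul_inv_cancel, mul_inv_cancel, H_one])
    have h1 := H_conj_Usub a⁻¹ b⁻¹ u.2
    rwa [← hH, inv_inv] at h1
  · simpa using congrArg Subtype.val e
  · show τ _ x = τ (H a b * ((H a b)⁻¹ * u * H a b)) x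
    congr 2; group

/-- the vectors fixed by a single element -/
def fixer (v : V) : Subgroup (GG F) where
  carrier := {g | τ g v = v}
  one_mem' := by simp
  mul_mem' {g h} hg hh := by
    show τ (g * h) v = v
    rw [apply_mul_apply, hh, hg]
  inv_mem' {g} hg := by
    show τ g⁻¹ v = v
    conv_lhs => rw [← show τ g v = v from hg]
    exact apply_inv_apply τ g v

end Coef

/-- the data of the fixed vector -/
structure FixData [Fintype F] {V : Type*} [AddCommGroup V] [Module ℂ V]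
    (τ : Representation ℂ (GG F) V) where
  /-- the vector -/
  v : V
  /-- the coefficient function -/
  c : GG F → ℂ
  /-- the character of the torus -/
  θ : Fˣ → Fˣ → ℂ
  ne : v ≠ 0
  fixU : ∀ u ∈ Usub F, τ u v = v
  fix0 : τ n0 v = v
  eig : ∀ a b, τ (H a b) v = θ a b • v
  hc : ∀ g, c g • v = PU τ (τ g v)
  uniq : ∀ x, (∀ u ∈ Usub F, τ u x = x) → ∃ z : ℂ, z • v = x

namespace FixData

variable [Fintype F] {V : Type*} [AddCommGroup V] [Module ℂ V] {τ : Representation ℂ (GG F) V}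
  (D : FixData τ)

lemma cancel {x y : ℂ} (h : x • D.v = y • D.v) : x = y := smul_left_injective ℂ D.ne h

lemma c_one : D.c 1 = 1 := D.cancel (by
  rw [D.hc, one_smul, map_one, Module.End.one_apply, PU_fix τ D.fixU])

lemma c_left {u : GG F} (hu : u ∈ Usub F) (g : GG F) : D.c (u * g) = D.c g := D.cancel (by
  rw [D.hc, D.hc, apply_mul_apply, PU_right τ hu])

lemma c_right {u : GG F} (hu : u ∈ Usub F) (g : GG F) : D.c (g * u) = D.c g := D.cancel (by
  rw [D.hc, D.hc, apply_mul_apply, D.fixU u hu])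

lemma c_H_right (g : GG F) (a b : Fˣ) : D.c (g * H a b) = D.θ a b * D.c g := D.cancel (by
  rw [D.hc, apply_mul_apply, D.eig, map_smul, map_smul, ← D.hc, smul_smul])

lemma c_H_left (a b : Fˣ) (g : GG F) : D.c (H a b * g) = D.θ a b * D.c g := D.cancel (by
  rw [D.hc, apply_mul_apply, PU_H, ← D.hc, map_smul, D.eig, smul_smul, mul_comm])

lemma c_n0 (g : GG F) : D.c (g * n0) = D.c g := D.cancel (by
  rw [D.hc, D.hc, apply_mul_apply, D.fix0])

lemma θ_mul (a b a' b' : Fˣ) : D.θ (a * a') (b * b') = D.θ a b * D.θ a' b' := D.cancel (by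
  rw [← D.eig, ← H_mul, apply_mul_apply, D.eig, map_smul, D.eig, smul_smul, mul_comm])

lemma θ_norm (a b : Fˣ) : ‖D.θ a b‖ = 1 := by
  have key : ∀ i : ℕ, τ (H a b ^ i) D.v = D.θ a b ^ i • D.v := fun i => by
    induction i with
    | zero => simp
    | succ i ih =>
      rw [pow_succ, apply_mul_apply, D.eig, map_smul, ih, smul_smul, pow_succ']
  refine Complex.norm_eq_one_of_pow_eq_one (n := Nat.card (GG F)) (D.cancel ?_) Nat.card_pos.ne'
  rw [← key, pow_card_eq_one', map_one, one_smul]; rfl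

/-- the eigenvalue of the Hecke operator of the long root -/
lemma exists_mu (hk : 2 ≤ finrank ℂ V) [FiniteDimensional ℂ V] [τ.IsIrreducible] : ∃ μ : ℂ, ‖μ‖ ≤ 1 ∧
    ∀ n : GG F, (∀ y, ∃ u ∈ Usub F, n * X 6 y = u * n) →
      (Fintype.card F : ℂ) * D.c (n * n1) = μ * D.c n := by
  classical
  set w := τ n1 D.v with hw
  have fx : ∀ r ∈ ([6, 7, 8, 9, 10, 11] : List ℕ), ∀ t, τ (X r t) D.v = D.v :=
    fun r hr t => D.fixU _ (X_mem_Usub hr t)
  have w7 : ∀ t, τ (X 7 t) w = w := fun t => by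
    rw [hw, ← apply_mul_apply, show X 7 t * n1 = n1 * X 8 (-t) by rw [n1_8, neg_neg], apply_mul_apply,
      fx 8 (by simp)]
  have w8 : ∀ t, τ (X 8 t) w = w := fun t => by
    rw [hw, ← apply_mul_apply, ← n1_7, apply_mul_apply, fx 7 (by simp)]
  have w9 : ∀ t, τ (X 9 t) w = w := fun t => by
    rw [hw, ← apply_mul_apply, ← n1_9, apply_mul_apply, fx 9 (by simp)]
  have w10 : ∀ t, τ (X 10 t) w = w := fun t => by
    rw [hw, ← apply_mul_apply, show X 10 t * n1 = n1 * X 11 (-t) by rw [n1_11, neg_neg],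
      apply_mul_apply, fx 11 (by simp)]
  have w11 : ∀ t, τ (X 11 t) w = w := fun t => by
    rw [hw, ← apply_mul_apply, ← n1_10, apply_mul_apply, fx 10 (by simp)]
  set S := ∑ y : F, τ (X 6 y) w with hS
  have hSfix : ∀ u ∈ Usub F, τ u S = S := by
    refine fun u hu => Usub_le (K := fixer τ S) (fun r hr t => ?_) hu
    show τ (X r t) S = S
    rw [hS, map_sum]
    fin_cases hr
    · simp only [← apply_mul_apply, ← AddChar.map_add_eq_mul]
      exact Equiv.sum_comp (Equiv.addLeft t) fun y => τ (X 6 y) w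
    all_goals refine Finset.sum_congr rfl fun y _ => ?_
    · rw [← apply_mul_apply, s76, apply_mul_apply, apply_mul_apply, apply_mul_apply, apply_mul_apply,
        apply_mul_apply, w11, w10, w9, w8, w7]
    · rw [← apply_mul_apply, ← (c6_8 y t).eq, apply_mul_apply, w8]
    · rw [← apply_mul_apply, ← (c6_9 y t).eq, apply_mul_apply, w9]
    · rw [← apply_mul_apply, s106, apply_mul_apply, apply_mul_apply, w11, w10]
    · rw [← apply_mul_apply, ← (c6_11 y t).eq, apply_mul_apply, w11]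
  obtain ⟨μ, hμ⟩ := D.uniq S hSfix
  have hrec : ∀ n : GG F, (∀ y, ∃ u ∈ Usub F, n * X 6 y = u * n) →
      (Fintype.card F : ℂ) * D.c (n * n1) = μ * D.c n := fun n hn => D.cancel (by
    rw [← smul_smul μ, D.hc n, ← map_smul, ← map_smul, hμ, hS, map_sum, map_sum,
      ← smul_smul, Nat.cast_smul_eq_nsmul, ← Finset.card_univ, ← Finset.sum_const]
    refine Finset.sum_congr rfl fun y _ => ?_
    obtain ⟨u, hu, e⟩ := hn y
    rw [hw, ← apply_mul_apply, e, ← apply_mul_apply, mul_assoc, apply_mul_apply, PU_right τ hu,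
      D.hc])
  refine ⟨μ, ?_, hrec⟩
  have h1 := hrec 1 fun y => ⟨X 6 y, X_mem_Usub (by simp) y, by group⟩
  rw [one_mul, D.c_one, mul_one] at h1
  by_cases h0 : D.c n1 = 0
  · rw [← h1, h0, mul_zero, norm_zero]; exact zero_le_one
  have hθ : ∀ a b, D.θ a (a ^ 3 / b) = D.θ a b := fun a b => by
    have e := D.c_H_right n1 a b
    rw [n1_H, D.c_H_left] at e
    exact mul_right_cancel₀ h0 e
  have hθ1 : ∀ b, D.θ 1 b = 1 := fun b => by
    have hne : ∀ a b, D.θ a b ≠ 0 := fun a b h => by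
      have := D.θ_norm a b
      rw [h, norm_zero] at this
      exact zero_ne_one this
    have hc3 : D.θ 1 (b ^ 3) = 1 := by
      have e := hθ b 1
      rw [div_one, show D.θ b (b ^ 3) = D.θ b 1 * D.θ 1 (b ^ 3) by
        rw [← D.θ_mul, mul_one, one_mul]] at e
      exact (mul_eq_left₀ (hne b 1)).1 e
    have hc2 : D.θ 1 (b * b) = 1 := by
      have e := hθ 1 b
      rw [one_pow] at e
      have h11 : D.θ 1 1 = 1 := D.cancel (by rw [← D.eig, H_one, map_one, one_smul]; rfl)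
      rw [← h11, show D.θ 1 (b * b) = D.θ 1 b * D.θ 1 b by rw [← D.θ_mul, one_mul]]
      conv_lhs => arg 2; rw [← e]
      rw [← D.θ_mul, one_mul, mul_div_cancel]
    have e : D.θ 1 (b ^ 3) = D.θ 1 (b * b) * D.θ 1 b := by
      rw [← D.θ_mul, one_mul, show b ^ 3 = b * b * b by rw [pow_succ, sq]]
    rw [hc3, hc2, one_mul] at e
    exact e.symm
  have hn1H : ∀ b, τ (H 1 b) w = w := fun b => by
    rw [hw, ← apply_mul_apply, show H 1 b * n1 = (n1 * H 1 b⁻¹ : GG F) by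
      rw [n1_H, one_pow, one_div, inv_inv], apply_mul_apply, D.eig, hθ1, one_smul]
  have hX5 : ∀ z : F, z ≠ 0 → τ (X 5 z) D.v = τ (X 6 z⁻¹) w := fun z hz => by
    rw [X5_eq hz, apply_mul_apply, apply_mul_apply, fx 6 (by simp), apply_mul_apply, ← hw, hn1H]
  have hS1 : τ n1 S = D.v + (S - w) := by
    rw [hS, map_sum, ← Finset.add_sum_erase _ _ (Finset.mem_univ (0 : F)),
      ← Finset.add_sum_erase _ (fun y => τ (X 6 y) w) (Finset.mem_univ (0 : F))]
    have hz : τ n1 (τ (X 6 (0 : F)) w) = D.v := by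
      rw [AddChar.map_zero_eq_one, map_one, Module.End.one_apply, hw, ← apply_mul_apply, n1_sq,
        D.eig, hθ1, one_smul]
    have hg : ∀ y : F, y ≠ 0 → τ n1 (τ (X 6 y) w) = τ (X 6 (-y)⁻¹) w := fun y hy => by
      rw [hw, ← apply_mul_apply, n1_6, ← apply_mul_apply, mul_assoc, n1_sq, apply_mul_apply, D.eig,
        hθ1, one_smul, hX5 _ (neg_ne_zero.2 hy)]
    rw [hz, AddChar.map_zero_eq_one, map_one, Module.End.one_apply, add_sub_cancel_left]
    congr 1
    refine Finset.sum_bij (fun y _ => (-y)⁻¹) (fun y hy => ?_) (fun y _ z _ h => ?_) (fun z hz => ?_)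
      fun y hy => hg y (Finset.ne_of_mem_erase hy)
    · simpa using hy
    · simpa using h
    · exact ⟨-z⁻¹, by simpa using hz, by simp⟩
  rw [← hμ, map_smul, ← hw] at hS1
  have h2 : (μ + 1) • (w - D.v) = 0 := by
    rw [smul_sub, add_smul, add_smul, hS1, one_smul, one_smul]
    abel
  rcases smul_eq_zero.1 h2 with h | h
  · rw [eq_neg_of_add_eq_zero_left h, norm_neg, norm_one]
  · exfalso
    have hall : fixer τ D.v = ⊤ := eq_top_of_mem (fun t => fx 6 (by simp) t)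
      (fun t => fx 7 (by simp) t) D.fix0 (sub_eq_zero.1 h)
    refine no_line τ hk D.ne fun g => ⟨1, ?_⟩
    rw [one_smul]
    exact (show g ∈ fixer τ D.v from hall ▸ Subgroup.mem_top g).symm

/-- the size of the coefficients on the words -/
lemma c_word (hk : 2 ≤ finrank ℂ V) [FiniteDimensional ℂ V] [τ.IsIrreducible] :
    ∀ w ∈ ([[], [0], [1], [1, 0], [0, 1], [0, 1, 0], [1, 0, 1], [1, 0, 1, 0], [0, 1, 0, 1],
      [0, 1, 0, 1, 0], [1, 0, 1, 0, 1], [1, 0, 1, 0, 1, 0], [0, 1, 0, 1, 0, 1]] : List (List ℕ)),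
      ‖D.c (wd w)‖ ≤ ((Fintype.card F : ℝ) ^ (min (w.count 1) 2))⁻¹ := by
  obtain ⟨μ, hμ, hrec⟩ := D.exists_mu hk
  set q : ℝ := (Fintype.card F : ℝ)
  have hq1 : (1 : ℝ) ≤ q := Nat.one_le_cast.2 Fintype.card_pos
  have step1 : ∀ w B, ‖D.c (wd w)‖ ≤ B →
      (∀ y, ∃ u ∈ Usub F, wd w * X 6 y = u * wd w) → ‖D.c (wd (w ++ [1]))‖ ≤ B / q := by
    intro w B hB hn
    rw [wd_snoc, show (nn 1 : GG F) = n1 from rfl, le_div_iff₀ (by linarith), mul_comm]
    have h := congrArg (‖·‖) (hrec _ hn)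
    simp only [norm_mul, Complex.norm_natCast] at h
    rw [h]
    calc ‖μ‖ * ‖D.c (wd w)‖ ≤ 1 * B := mul_le_mul hμ hB (norm_nonneg _) zero_le_one
      _ = B := one_mul B
  have step0 : ∀ w B, ‖D.c (wd w)‖ ≤ B → ‖D.c (wd (w ++ [0]))‖ ≤ B := fun w B hB => by
    rwa [wd_snoc, show (nn 0 : GG F) = n0 from rfl, D.c_n0]
  have mU : ∀ r t, r ∈ ([6, 7, 8, 9, 10, 11] : List ℕ) → (X r t : GG F) ∈ Usub F :=
    fun r t h => X_mem_Usub h t
  have e0 : ‖D.c (wd ([] : List ℕ))‖ ≤ 1 := by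
    rw [show (wd ([] : List ℕ) : GG F) = 1 from rfl, D.c_one, norm_one]
  have k0 : ∀ y, n0 * X 6 y = X 10 y * (n0 : GG F) := n0_6
  have k10 : ∀ y, n1 * n0 * X 6 y = X 11 y * (n1 * n0 : GG F) := fun y => by
    rw [mul_assoc, k0, ← mul_assoc, n1_10, mul_assoc]
  have k010 : ∀ y, n0 * n1 * n0 * X 6 y = X 11 y * (n0 * n1 * n0 : GG F) := fun y => by
    rw [mul_assoc n0, mul_assoc, k10, ← mul_assoc, n0_11, mul_assoc]
  have k1010 : ∀ y, n1 * n0 * n1 * n0 * X 6 y = X 10 (-y) * (n1 * n0 * n1 * n0 : GG F) := fun y => by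
    rw [show (n1 * n0 * n1 * n0 : GG F) = n1 * (n0 * n1 * n0) by group, mul_assoc, k010, ← mul_assoc,
      n1_11, mul_assoc]
  have k01010 : ∀ y, n0 * n1 * n0 * n1 * n0 * X 6 y =
      X 6 y * (n0 * n1 * n0 * n1 * n0 : GG F) := fun y => by
    rw [show (n0 * n1 * n0 * n1 * n0 : GG F) = n0 * (n1 * n0 * n1 * n0) by group, mul_assoc, k1010,
      ← mul_assoc, n0_10, neg_neg, mul_assoc]
  have hnil : (wd ([] : List ℕ) : GG F) = 1 := rfl
  have b0 := step0 [] 1 e0
  have b1 := step1 [] 1 e0 fun y => ⟨X 6 y, mU _ _ (by simp), by rw [hnil, one_mul, mul_one]⟩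
  have b10 := step0 [1] _ b1
  have b01 := step1 [0] 1 b0 fun y => ⟨X 10 y, mU _ _ (by simp), by simpa [wd, nn] using k0 y⟩
  have b010 := step0 [0, 1] _ b01
  have b101 := step1 [1, 0] _ b10 fun y =>
    ⟨X 11 y, mU _ _ (by simp), by simpa [wd, nn] using k10 y⟩
  have b1010 := step0 [1, 0, 1] _ b101
  have b0101 := step1 [0, 1, 0] _ b010 fun y =>
    ⟨X 11 y, mU _ _ (by simp), by simpa [wd, nn, mul_assoc] using k010 y⟩
  have b01010 := step0 [0, 1, 0, 1] _ b0101
  have b10101 := step1 [1, 0, 1, 0] _ b1010 fun y =>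
    ⟨X 10 (-y), mU _ _ (by simp), by simpa [wd, nn, mul_assoc] using k1010 y⟩
  have b101010 := step0 [1, 0, 1, 0, 1] _ b10101
  have b010101 := step1 [0, 1, 0, 1, 0] _ b01010 fun y =>
    ⟨X 6 y, mU _ _ (by simp), by simpa [wd, nn, mul_assoc] using k01010 y⟩
  have h3 : 1 / q / q / q ≤ (q ^ 2)⁻¹ := by
    rw [div_div, div_div, one_div, inv_le_inv₀ (by positivity) (by positivity), sq]
    nlinarith
  have h2 : 1 / q / q = (q ^ 2)⁻¹ := by rw [div_div, one_div, sq]
  simp only [List.nil_append, List.cons_append, List.singleton_append] at *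
  intro w hw
  fin_cases hw
  · simpa using e0
  · simpa using b0
  · simpa using b1
  · simpa using b10
  · simpa using b01
  · simpa using b010
  all_goals simp
  · rw [← h2]; exact b101
  · rw [← h2]; exact b1010
  · rw [← h2]; exact b0101
  · rw [← h2]; exact b01010
  · exact b10101.trans h3
  · exact b101010.trans h3
  · exact b010101.trans h3

end FixData

end CfsgLib.CharsMore.G2MinDeg
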