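import Cfsg.Agent.Lib.CharsMore.G2MinDeg.Hecke

/-!
# The count over the Bruhat cells
-/

set_option autoImplicit false
set_option maxRecDepth 100000

namespace CfsgLib.CharsMore.G2MinDeg

open Cfsg.Lie CfsgLib.Chev Module CfsgLib.CharsMore.D4MinDeg Finset

local notation "g₂" => stdG2.good

variable {F : Type*} [Field F] [Fintype F] {V : Type*} [AddCommGroup V] [Module ℂ V]
  [FiniteDimensional ℂ V] (τ : Representation ℂ (GG F) V) [τ.IsIrreducible]

variable (F) in
/-- the unipotent part of a cell -/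
noncomputable def Vw (w : List ℕ) : Subgroup (GG F) :=
  (UP F g₂ (toNeg chevG2 (wf auxG2 w))).subgroupOf (chevG2.group F)

noncomputable instance (w : List ℕ) : Fintype (Vw F w) := Fintype.ofFinite _

open Classical in
variable (F) in
/-- a Bruhat cell -/
noncomputable def cell (w : List ℕ) : Finset (GG F) :=
  Finset.univ.image fun p : Usub F × Fˣ × Fˣ × Vw F w =>
    (p.1 : GG F) * H p.2.1 p.2.2.1 * wd w * (p.2.2.2 : GG F)

lemma card_cell {w : List ℕ} (hl : Letters chevG2 w) {n : ℕ}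
    (hn : (chevG2.posRoots.toFinset.filter fun r => ¬ chevG2.IsPosRoot (wf auxG2 w r)).card = n) :
    (cell F w).card ≤
      Fintype.card F ^ 6 * (Fintype.card F - 1) ^ 2 * Fintype.card F ^ n := by
  classical
  refine Finset.card_image_le.trans (le_of_eq ?_)
  have eV : Nat.card (Vw F w) = Fintype.card F ^ n := by
    rw [← hn, ← card_toNeg stdG2 (nW_acts (F := F) g₂ hl)]
    exact Nat.card_congr (Subgroup.subgroupOfEquivOfLe (((UP_toNeg_le g₂ (wf auxG2 w)).trans
      pos_le_borel).trans (borel_le_group g₂))).toEquiv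
  have eU : Nat.card (Usub F) = Fintype.card F ^ 6 := by
    refine (Nat.card_congr (Subgroup.subgroupOfEquivOfLe
      (pos_le_borel.trans (borel_le_group g₂))).toEquiv).trans ?_
    rw [card_posUnipotent stdG2, show chevG2.nroots / 2 = 6 from rfl]
  rw [Finset.card_univ, Fintype.card_prod, Fintype.card_prod, Fintype.card_prod, Fintype.card_units,
    ← Nat.card_eq_fintype_card (α := Usub F), ← Nat.card_eq_fintype_card (α := Vw F w), eV, eU]
  ring

namespace FixData

variable {τ} (D : FixData τ)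

open Classical in
/-- the coefficient and its inverse outside six cells -/
lemma pointwise (hk : 2 ≤ finrank ℂ V) (g : GG F) :
    ‖D.c g⁻¹ * D.c g‖ ≤ ((Fintype.card F : ℝ) ^ 4)⁻¹ +
      ((([[], [0], [1], [1, 0], [0, 1], [0, 1, 0]] : List (List ℕ)).map fun w =>
        if g ∈ cell F w then ((Fintype.card F : ℝ) ^ (2 * w.count 1))⁻¹ else 0)).sum := by
  obtain ⟨w, hw, u₁, hu₁, a, b, u₂, hu₂, rfl⟩ := exists_form g
  have hu₂' : u₂ ∈ Usub F := UP_toNeg_le g₂ _ hu₂
  obtain ⟨a', b', hinv⟩ := exists_wd_inv (F := F) w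
  have hH : (H a b : GG F)⁻¹ = H a⁻¹ b⁻¹ :=
    inv_eq_of_mul_eq_one_right (by rw [H_mul, mul_inv_cancel, mul_inv_cancel, H_one])
  have e1 : ‖D.c (u₁ * H a b * wd w * u₂)‖ = ‖D.c (wd w)‖ := by
    rw [D.c_right hu₂', mul_assoc, D.c_left hu₁, D.c_H_left, norm_mul, D.θ_norm, one_mul]
  have e2 : ‖D.c (u₁ * H a b * wd w * u₂)⁻¹‖ = ‖D.c (wd w.reverse)‖ := by
    rw [show (u₁ * H a b * wd w * u₂)⁻¹ = u₂⁻¹ * ((wd w)⁻¹ * (H a b)⁻¹) * u₁⁻¹ by group,
      D.c_right (inv_mem hu₁), D.c_left (inv_mem hu₂'), hinv, hH, mul_assoc, H_mul, D.c_H_right,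
      norm_mul, D.θ_norm, one_mul]
  have hmem : u₁ * H a b * wd w * u₂ ∈ cell F w :=
    Finset.mem_image.2 ⟨(⟨u₁, hu₁⟩, a, b, ⟨u₂, hu₂⟩), Finset.mem_univ _, rfl⟩
  set g := u₁ * H a b * wd w * u₂
  rw [norm_mul, e1, e2]
  have hb := D.c_word hk
  have hc : ∀ v : List ℕ, v.reverse.count 1 = v.count 1 := fun v => List.count_reverse ..
  have hw' := nf_tab.1 w hw
  have h1 : ‖D.c (wd w.reverse)‖ * ‖D.c (wd w)‖ ≤ ((Fintype.card F : ℝ) ^ (2 * min (w.count 1) 2))⁻¹ := by
    rw [two_mul, pow_add, mul_inv]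
    refine mul_le_mul ?_ (hb w ?_) (norm_nonneg _) (by positivity)
    · rw [← hc w]
      refine hb _ ?_
      fin_cases hw' <;> simp
    · fin_cases hw' <;> simp
  refine h1.trans ?_
  have hnn : ∀ w : List ℕ, (0 : ℝ) ≤
      if g ∈ cell F w then ((Fintype.card F : ℝ) ^ (2 * w.count 1))⁻¹ else 0 := fun w => by
    split_ifs <;> positivity
  rcases le_or_gt 2 (w.count 1) with h | h
  · rw [min_eq_right h]
    exact le_add_of_nonneg_right (List.sum_nonneg fun x hx => by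
      obtain ⟨v, -, rfl⟩ := List.mem_map.1 hx
      exact hnn v)
  · rw [min_eq_left h.le]
    refine le_add_of_nonneg_of_le (by positivity) ?_
    refine le_trans ?_ (List.single_le_sum (fun x hx => by
      obtain ⟨v, -, rfl⟩ := List.mem_map.1 hx
      exact hnn v) _ (List.mem_map.2 ⟨w, ?_, rfl⟩))
    · rw [if_pos hmem]
    · fin_cases hw' <;> simp at h ⊢

open Classical in
lemma schur_sum : (∑ g : GG F, D.c g⁻¹ * D.c g) * (finrank ℂ V : ℂ) = Nat.card (GG F) := by
  have hproj : LinearMap.IsProj (Submodule.span ℂ {D.v}) (PU τ) := ⟨fun x => by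
    obtain ⟨z, hz⟩ := D.uniq (PU τ x) fun u hu => PU_left τ hu x
    exact hz ▸ Submodule.smul_mem _ _ (Submodule.mem_span_singleton_self _), fun x hx => by
    obtain ⟨z, rfl⟩ := Submodule.mem_span_singleton.1 hx
    rw [map_smul, PU_fix τ D.fixU]⟩
  have htr : LinearMap.trace ℂ V (PU τ) = 1 := by
    rw [hproj.trace, finrank_span_singleton D.ne, Nat.cast_one]
  set T : Module.End ℂ V := ∑ g : GG F, τ g * PU τ * τ g⁻¹ with hT
  obtain ⟨l, hl⟩ := CfsgLib.CharsMore.schur_scalar τ T fun h => by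
    rw [hT, Finset.sum_mul, Finset.mul_sum]
    refine Fintype.sum_equiv (Equiv.mulLeft h⁻¹) _ _ fun g => ?_
    simp only [Equiv.coe_mulLeft, mul_inv_rev, inv_inv, map_mul, ← mul_assoc]
    rw [← map_mul τ h h⁻¹, mul_inv_cancel, map_one, one_mul]
  have h1 : l * (finrank ℂ V : ℂ) = Nat.card (GG F) := by
    have := congrArg (LinearMap.trace ℂ V) hl
    rw [hT, map_sum, map_smul, LinearMap.trace_one, smul_eq_mul] at this
    rw [← this, Nat.card_eq_fintype_card, Finset.sum_congr rfl fun g _ => ?_, Finset.sum_const,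
      Finset.card_univ, nsmul_eq_mul, mul_one]
    rw [LinearMap.trace_mul_comm, ← mul_assoc, ← map_mul, inv_mul_cancel, map_one, one_mul, htr]
  suffices ∑ g : GG F, D.c g⁻¹ * D.c g = l by rw [this, h1]
  refine D.cancel ?_
  have h2 := congrArg (fun S : Module.End ℂ V => PU τ (S D.v)) hl
  simp only [hT, LinearMap.sum_apply, map_sum, Module.End.mul_apply, LinearMap.smul_apply,
    Module.End.one_apply, ← D.hc, map_smul, smul_smul] at h2
  rw [Finset.sum_smul, h2]
  congr 1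
  exact PU_fix τ D.fixU

end FixData

include τ in
/-- degree `q³` is impossible -/
theorem ne_cube (h3 : (3 : F) ≠ 0) (hq : 5 ≤ Fintype.card F) (hk : 2 ≤ finrank ℂ V) :
    finrank ℂ V ≠ Fintype.card F ^ 3 := by
  classical
  intro hcube
  obtain ⟨hm, -, hsum⟩ := (notThree_bound τ h3 hq hk).2 hcube.le
  obtain ⟨v, hv, hQ, h7, hn0, hH, huniq⟩ := exists_fixed τ h3 hq hm (by omega)
  have hfix : ∀ u ∈ Usub F, τ u v = v := by
    refine fun u hu => Usub_le (K := fixer τ v) (fun r hr t => ?_) hu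
    fin_cases hr
    · exact hQ.six t
    · exact h7 t
    · exact hQ.eight t
    · exact hQ.nine t
    · exact hQ.ten t
    · exact hQ.eleven t
  have huniq' : ∀ x, (∀ u ∈ Usub F, τ u x = x) → ∃ z : ℂ, z • v = x := fun x hx =>
    huniq x fun r hr t => hx _ (X_mem_Usub (by fin_cases hr <;> simp) t)
  choose θ hθ using hH
  choose c hc using fun g => huniq' (PU τ (τ g v)) fun u hu => PU_left τ hu _
  let D : FixData τ := ⟨v, c, θ, hv, hfix, hn0, fun a b => (hθ a b).symm, hc, huniq'⟩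
  have hS := congrArg (‖·‖) D.schur_sum
  simp only [norm_mul, Complex.norm_natCast, hcube] at hS
  have hle : ‖∑ g : GG F, D.c g⁻¹ * D.c g‖ ≤ _ :=
    (norm_sum_le _ _).trans (Finset.sum_le_sum fun g _ => D.pointwise hk g)
  rw [Finset.sum_add_distrib, Finset.sum_const, Finset.card_univ, nsmul_eq_mul] at hle
  simp only [List.map_cons, List.map_nil, List.sum_cons, List.sum_nil, add_zero,
    Finset.sum_add_distrib, Finset.sum_ite_mem, Finset.univ_inter, Finset.sum_const, nsmul_eq_mul]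
    at hle
  have hcell : ∀ p ∈ ([([], 0), ([0], 1), ([1], 1), ([1, 0], 2), ([0, 1], 2), ([0, 1, 0], 3)] :
      List (List ℕ × ℕ)), ((cell F p.1).card : ℝ) ≤
        (Fintype.card F : ℝ) ^ 6 * ((Fintype.card F : ℝ) - 1) ^ 2 * (Fintype.card F : ℝ) ^ p.2 := by
    intro p hp
    have hl : Letters chevG2 p.1 := by
      intro i hi
      show i < 2
      fin_cases hp <;> simp at hi <;> omega
    have h := card_cell (F := F) hl (nf_tab.2 p hp)
    have h' := (Nat.cast_le (α := ℝ)).2 h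
    push_cast [Nat.cast_sub (show 1 ≤ Fintype.card F by omega)] at h'
    exact h'
  have c1 := hcell ([], 0) (by simp)
  have c2 := hcell ([0], 1) (by simp)
  have c3 := hcell ([1], 1) (by simp)
  have c4 := hcell ([1, 0], 2) (by simp)
  have c5 := hcell ([0, 1], 2) (by simp)
  have c6 := hcell ([0, 1, 0], 3) (by simp)
  simp only [List.count_nil, List.count_cons_self, List.count_cons_of_ne (show (0 : ℕ) ≠ 1 by decide),
    mul_zero, pow_zero, inv_one, mul_one, zero_add, pow_one] at hle c1 c2 c3 c4 c5 c6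
  rw [← Nat.card_eq_fintype_card, card_GG] at hle
  rw [card_GG] at hS
  have hq2 : 1 ≤ Fintype.card F ^ 2 := Nat.one_le_pow _ _ (by omega)
  have hq6 : 1 ≤ Fintype.card F ^ 6 := Nat.one_le_pow _ _ (by omega)
  push_cast [Nat.cast_sub hq2, Nat.cast_sub hq6] at hle hS
  set q : ℝ := (Fintype.card F : ℝ) with hqdef
  have hq5 : (5 : ℝ) ≤ q := by rw [hqdef]; exact_mod_cast hq
  set A := ‖∑ g : GG F, D.c g⁻¹ * D.c g‖
  have key : A ≤ q ^ 6 * ((q ^ 2 - 1) * (q ^ 6 - 1)) * (q ^ 4)⁻¹ +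
      q ^ 6 * (q - 1) ^ 2 * (1 + q + (q ^ 2)⁻¹ * q + 2 * (q ^ 2)⁻¹ * q ^ 2 + (q ^ 2)⁻¹ * q ^ 3) := by
    have i2 : (0 : ℝ) ≤ (q ^ 2)⁻¹ := by positivity
    nlinarith [mul_le_mul_of_nonneg_right c3 i2, mul_le_mul_of_nonneg_right c4 i2,
      mul_le_mul_of_nonneg_right c5 i2, mul_le_mul_of_nonneg_right c6 i2]
  have k2 : A * q ^ 4 ≤ q ^ 6 * ((q ^ 2 - 1) * (q ^ 6 - 1)) +
      q ^ 6 * (q - 1) ^ 2 * (2 * q ^ 5 + 3 * q ^ 4 + q ^ 3) := by
    refine (mul_le_mul_of_nonneg_right key (by positivity)).trans_eq ?_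
    field_simp
    ring
  have k3 : q ^ 6 * (q - 1) ^ 2 * ((q + 1) * (q ^ 6 - 1)) ≤
      q ^ 6 * (q - 1) ^ 2 * (2 * q ^ 5 + 3 * q ^ 4 + q ^ 3) := by
    have e : A * q ^ 4 = q * (q ^ 6 * ((q ^ 2 - 1) * (q ^ 6 - 1))) := by rw [← hS]; ring
    rw [e] at k2
    linarith [k2]
  have k4 := le_of_mul_le_mul_left k3 (mul_pos (by positivity) (pow_pos (by linarith) 2))
  nlinarith [mul_le_mul_of_nonneg_right hq5 (show 0 ≤ q ^ 6 by positivity),
    mul_le_mul_of_nonneg_right hq5 (show 0 ≤ q ^ 5 by positivity),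
    mul_le_mul_of_nonneg_right hq5 (show 0 ≤ q ^ 4 by positivity),
    mul_le_mul_of_nonneg_right hq5 (show 0 ≤ q ^ 3 by positivity),
    pow_pos (show (0 : ℝ) < q by linarith) 3]

end CfsgLib.CharsMore.G2MinDeg
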