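import Cfsg.Agent.Lib.CharsMore.G2MinDeg.NotThree
import Cfsg.Agent.Lib.Chev.G2.SingerTorus
import Cfsg.Agent.Lib.Classical.Order

/-!
# The element of order three whose centraliser holds the long root `SL₃`

Its character value rules out the degree `q³ - 1` when `q ≡ 1 (mod 3)`.
-/

set_option autoImplicit false
set_option maxRecDepth 100000

namespace CfsgLib.CharsMore.G2MinDeg

open Cfsg.Lie CfsgLib.Chev Module CfsgLib.CharsMore.D4MinDeg
open Matrix
open scoped MatrixGroups

variable {F : Type*} [Field F]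

lemma phi_injective : Function.Injective (G2.phi : SL(3, F) →* GL chevG2.Idx F) := by
  refine (injective_iff_map_eq_one _).2 fun A hA => ?_
  have h : G2.phiMat A = 1 := by rw [← G2.phi_val, hA]; rfl
  have key : ∀ x : chevG2.Idx → F, G2.phiMat A *ᵥ x = x := fun x => by rw [h, Matrix.one_mulVec]
  have e : ∀ j : Fin 12, _ := fun j => G2.phi_short A (Pi.single (G2.rt j) 1)
  simp only [key] at e
  refine Subtype.ext (Matrix.ext fun i j => ?_)
  have h9 := e 9
  have h3 := e 3
  have h4 := e 4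
  simp [G2.rt_ne] at h9 h3 h4
  fin_cases i <;> fin_cases j <;> simp [← h9.1, ← h9.2.1, ← h9.2.2, ← h3.1, ← h3.2.1, ← h3.2.2,
    ← h4.1, ← h4.2.1, ← h4.2.2]

variable [Fintype F] {ω : Fˣ}

omit [Fintype F] in
lemma phi_commute (hω : ω ^ 3 = 1) (A : SL(3, F)) :
    Commute (G2.phi A) (tor chevG2 auxG2 (cv ω 1)) := by
  have e : cv ω 1 = G2.cvec ω ω := by
    funext i
    change Fin 2 at i
    fin_cases i <;> simp [G2.cvec, cv]
  rw [e, ← G2.phi_dSL]
  refine Commute.map ?_ _
  show A * G2.dSL ω ω = G2.dSL ω ω * A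
  refine Subtype.ext ?_
  have hs : ((G2.dSL ω ω : SL(3, F)) : Matrix (Fin 3) (Fin 3) F) = Matrix.diagonal fun _ => (ω : F) := by
    show Matrix.diagonal _ = _
    congr 1
    funext i
    fin_cases i <;> simp
    rw [← mul_inv, inv_eq_of_mul_eq_one_left]
    rw [← pow_two, ← pow_succ', ← Units.val_pow_eq_pow_val, hω, Units.val_one]
  show A.1 * (G2.dSL ω ω).1 = (G2.dSL ω ω).1 * A.1
  rw [hs]
  exact (Matrix.scalar_commute (ω : F) (fun x => Commute.all _ _) A.1).symm.eq

/-- the class of the element is small -/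
theorem index_dvd (hω : ω ^ 3 = 1) :
    (Subgroup.centralizer ({H ω 1} : Set (GG F))).index ∣
      Fintype.card F ^ 3 * (Fintype.card F ^ 3 + 1) := by
  set q := Fintype.card F
  let f : SL(3, F) →* ↥(Subgroup.centralizer ({H ω 1} : Set (GG F))) :=
    ((G2.phi : SL(3, F) →* GL chevG2.Idx F).codRestrict _ G2.phi_mem).codRestrict _ fun A =>
      Subgroup.mem_centralizer_singleton_iff.2 (Subtype.ext (phi_commute hω A).eq)
  have hf : Function.Injective f := fun A B e =>
    phi_injective (congrArg (fun z : ↥(Subgroup.centralizer ({H ω 1} : Set (GG F))) =>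
      ((z : GG F) : GL chevG2.Idx F)) e)
  obtain ⟨c, hc⟩ := Subgroup.card_dvd_of_injective f hf
  have hi := Subgroup.index_mul_card (Subgroup.centralizer ({H ω 1} : Set (GG F)))
  rw [hc, card_GG] at hi
  have hsl : Nat.card SL(3, F) = q ^ 3 * ((q ^ 2 - 1) * (q ^ 3 - 1)) := by
    rw [CfsgLib.Classical.card_SL_fin', Nat.card_eq_fintype_card]
    simp [Finset.prod_range_succ, q]
  rw [hsl] at hi
  have hq : 2 ≤ q := Fintype.one_lt_card
  have e6 : q ^ 6 - 1 = (q ^ 3 - 1) * (q ^ 3 + 1) := by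
    obtain ⟨p, hp⟩ : ∃ p, q ^ 3 = p + 1 := ⟨q ^ 3 - 1, by
      have := Nat.one_le_pow 3 q (by omega); omega⟩
    rw [show q ^ 6 = q ^ 3 * q ^ 3 by ring, hp, Nat.add_sub_cancel,
      show (p + 1) * (p + 1) = p * (p + 1 + 1) + 1 by ring, Nat.add_sub_cancel]
  have h2 : 4 ≤ q ^ 2 := le_trans (by norm_num) (Nat.pow_le_pow_left hq 2)
  have h3' : 8 ≤ q ^ 3 := le_trans (by norm_num) (Nat.pow_le_pow_left hq 3)
  refine ⟨c, Nat.eq_of_mul_eq_mul_left
    (show 0 < q ^ 3 * ((q ^ 2 - 1) * (q ^ 3 - 1)) from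
      Nat.mul_pos (by omega) (Nat.mul_pos (by omega) (by omega))) ?_⟩
  have hi' : (Subgroup.centralizer ({H ω 1} : Set (GG F))).index *
      (q ^ 3 * ((q ^ 2 - 1) * (q ^ 3 - 1)) * c) = q ^ 6 * ((q ^ 2 - 1) * (q ^ 6 - 1)) := hi
  rw [e6] at hi'
  calc q ^ 3 * ((q ^ 2 - 1) * (q ^ 3 - 1)) * (q ^ 3 * (q ^ 3 + 1))
      = q ^ 6 * ((q ^ 2 - 1) * ((q ^ 3 - 1) * (q ^ 3 + 1))) := by ring
    _ = _ := by rw [← hi']; ring

variable {V : Type*} [AddCommGroup V] [Module ℂ V] [FiniteDimensional ℂ V]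
  (τ : Representation ℂ (GG F) V)

omit [Fintype F] in
lemma H_pow_three (hω : ω ^ 3 = 1) : H ω 1 * H ω 1 * H ω 1 = (1 : GG F) := by
  rw [H_mul, H_mul, one_mul, one_mul, ← pow_two, ← pow_succ, hω, H_one]

lemma c_e3 (hω : ω ^ 3 = 1) (a b c : F) :
    H ω 1 * e3 (a, b, c) = e3 (a, (ω : F) * b, c) * H ω 1 := by
  have h3 : (ω : F) ^ 3 = 1 := by rw [← Units.val_pow_eq_pow_val, hω, Units.val_one]
  rw [H_e3]; simp [h3]

/-- the value of the character -/
theorem trace_order_three (h3 : (3 : F) ≠ 0) (hq : 5 ≤ Fintype.card F) (hω : ω ^ 3 = 1)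
    (hω1 : ω ≠ 1) (hm : wA τ 1 0 0 = 1) (h0 : wA τ 0 0 0 = Fintype.card F - 1) :
    LinearMap.trace ℂ V (τ (H ω 1)) = (Fintype.card F : ℂ) ^ 2 + Fintype.card F - 2 := by
  classical
  -- the value in terms of the scalar on one line
  have key : ∀ {ω : Fˣ}, ω ^ 3 = 1 → ω ≠ 1 → LinearMap.trace ℂ V (τ (H ω 1)) =
      ((Fintype.card F : ℂ) ^ 2 - 1) * LinearMap.trace ℂ V (τ (H ω 1) * wp τ e3 (w3 F 0 0 1)) +
        ((Fintype.card F : ℂ) - 1) * LinearMap.trace ℂ V (τ (H ω⁻¹ 1) * wp τ e3 (w3 F 0 0 1)) := by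
    intro ω hω hω1
    have h3ω : (ω : F) ^ 3 = 1 := by rw [← Units.val_pow_eq_pow_val, hω, Units.val_one]
    set c : GG F := H ω 1
    set t : F → F → ℂ := fun l r => LinearMap.trace ℂ V (τ c * wp τ e3 (w3 F l 0 r))
    have hmoved : ∀ l β r, β ≠ 0 → LinearMap.trace ℂ V (τ c * wp τ e3 (w3 F l β r)) = 0 := by
      intro l β r hβ
      refine trace_moved τ (wp_mul_self τ e3 _) (wp_conj τ e3 (χ' := w3 F l ((ω : F)⁻¹ * β) r)
        (f := Equiv.ofBijective _ (Finite.injective_iff_bijective.1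
          (show Function.Injective fun p : F × F × F => (p.1, (ω : F) * p.2.1, p.2.2) from
            fun p n h => by simpa [Prod.ext_iff] using h)))
        (fun p => c_e3 hω p.1 p.2.1 p.2.2) fun p => ?_) (wp_mul_of_ne τ e3 ?_)
      · simp [w3_apply]; field_simp
      · rw [Ne, w3_inj]
        rintro ⟨-, h, -⟩
        refine hω1 (Units.ext (mul_right_cancel₀ hβ ?_))
        rw [Units.val_one, one_mul]
        conv_lhs => rw [h]
        field_simp
    have s6 : ∀ y l r, t l (r + y * l) = t l r := fun y l r =>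
      (trace_conj_commute τ (g := X 6 y) (R := wp τ e3 (w3 F l 0 (r + y * l)))
        (show X 6 y * c = c * X 6 y by simp only [c]; rw [H6, h3ω]; simp)
        (wp_conj τ e3 (f := Equiv.ofBijective _ (Finite.injective_iff_bijective.1
          (inj_shear fun p => p.2 * y))) (χ := w3 F l 0 (r + y * l)) (χ' := w3 F l 0 r)
          (fun p => X6_e3 y p.1 p.2.1 p.2.2) fun p => by simp [w3_apply]; ring_nf)).symm
    have sH : ∀ (B : Fˣ) l r, t ((B : F) * l) (1 / B * r) = t l r := fun B l r =>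
      (trace_conj_commute τ (g := H 1 B) (R := wp τ e3 (w3 F ((B : F) * l) 0 (1 / B * r)))
        (show H 1 B * c = c * H 1 B by simp only [c, H_mul, mul_comm])
        (wp_conj τ e3 (f := Equiv.ofBijective _ (Finite.injective_iff_bijective.1
          (show Function.Injective fun p : F × F × F =>
            ((B : F) * p.1, ((1 : Fˣ) : F) * p.2.1, ((1 : Fˣ) : F) ^ 3 / B * p.2.2) from
            fun p n h => by simpa [Prod.ext_iff] using h)))
          (χ := w3 F ((B : F) * l) 0 (1 / B * r)) (χ' := w3 F l 0 r)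
          (fun p => H_e3 1 B p.1 p.2.1 p.2.2) fun p => by simp [w3_apply]; field_simp)).symm
    have s1 : ∀ l r, t (-r) l = t l r := fun l r =>
      (trace_conj_commute τ (g := n1) (R := wp τ e3 (w3 F (-r) 0 l))
        (show n1 * c = c * n1 by rw [n1_H, div_one, hω])
        (wp_conj τ e3 (f := Equiv.ofBijective _ (Finite.injective_iff_bijective.1
          (show Function.Injective fun p : F × F × F => (p.2.2, p.2.1, -p.1) from
            fun p n h => by simp_all [Prod.ext_iff])))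
          (χ := w3 F (-r) 0 l) (χ' := w3 F l 0 r)
          (fun p => n1_e3 p.1 p.2.1 p.2.2) fun p => by simp [w3_apply]; ring_nf)).symm
    have tfull : ∀ l r, l ≠ 0 → t l r = t 1 0 := fun l r hl => by
      have e1 := s6 (r / l) l 0
      rw [zero_add, div_mul_cancel₀ _ hl] at e1
      have e2 := sH (Units.mk0 l hl) 1 0
      simp only [Units.val_mk0, mul_one, mul_zero] at e2
      rw [e1, e2]
    have tlow : ∀ r, r ≠ 0 → t 0 r = t 1 0 := fun r hr =>
      (s1 0 r).symm.trans (tfull _ _ (neg_ne_zero.2 hr))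
    -- the lines inside the trivial weight
    set P := wp τ e3 (w3 F 0 0 0)
    have hP : IsIdempotentElem P := wp_mul_self τ e3 _
    have hcP : Commute (τ c) P := wp_conj τ e3 (f := Equiv.ofBijective _
      (Finite.injective_iff_bijective.1
          (show Function.Injective fun p : F × F × F => (p.1, (ω : F) * p.2.1, p.2.2) from
            fun p n h => by simpa [Prod.ext_iff] using h)))
      (fun p => c_e3 hω p.1 p.2.1 p.2.2) fun p => by simp [w3_apply]
    have hc6 : ∀ m, Commute c (X 6 m) := fun m => by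
      show H ω 1 * X 6 m = X 6 m * H ω 1
      rw [H6, h3ω]; simp
    have hsum : ∑ μ, mi τ (X 6) P (w1 F μ) = Fintype.card F - 1 := by
      have hs := sum_mi τ (X 6) hP (commute_low τ)
      rw [trace_wp, show mult τ e3 (w3 F 0 0 0) = wA τ 0 0 0 from rfl, h0,
        ← (Equiv.ofBijective _ (w1_bijective (F := F))).sum_comp] at hs
      exact Nat.cast_injective hs
    have hge : ∀ μ, μ ≠ 0 → 1 ≤ mi τ (X 6) P (w1 F μ) := fun μ hμ => by
      obtain ⟨u, hu, hwt, -, h6, -⟩ := exists_low τ h3 hq hm hμ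
      exact mi_pos τ (X 6) hP (commute_low τ) hu (wp_apply τ e3 hwt) h6
    have hsplit := hsum
    rw [← Finset.add_sum_erase _ _ (Finset.mem_univ (0 : F))] at hsplit
    have hcard : (Finset.univ.erase (0 : F)).card = Fintype.card F - 1 := by simp
    have hle : Fintype.card F - 1 ≤ ∑ μ ∈ Finset.univ.erase (0 : F), mi τ (X 6) P (w1 F μ) := by
      calc Fintype.card F - 1 = ∑ μ ∈ Finset.univ.erase (0 : F), 1 := by simp
        _ ≤ _ := Finset.sum_le_sum fun μ hμ => hge μ (Finset.ne_of_mem_erase hμ)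
    have hone : ∀ μ, μ ≠ 0 → mi τ (X 6) P (w1 F μ) = 1 := fun μ hμ => by
      have hall : ∀ ν ∈ Finset.univ.erase (0 : F), 1 = mi τ (X 6) P (w1 F ν) :=
        (Finset.sum_eq_sum_iff_of_le fun ν hν => hge ν (Finset.ne_of_mem_erase hν)).1
          (by rw [Finset.sum_const, hcard, smul_eq_mul, mul_one]; omega)
      exact (hall μ (by simp [hμ])).symm
    have hzero : mi τ (X 6) P (w1 F 0) = 0 := by omega
    set t' := LinearMap.trace ℂ V (τ (H ω⁻¹ 1) * wp τ e3 (w3 F 0 0 1))
    have hline : ∀ μ, μ ≠ 0 →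
        LinearMap.trace ℂ V (τ c * (P * wp τ (X 6) (w1 F μ))) = t' := by
      intro μ hμ
      obtain ⟨u, hu, hwt, -, h6, v, k, hv, hwv, rfl⟩ := exists_low τ h3 hq hm hμ
      have htr : LinearMap.trace ℂ V (P * wp τ (X 6) (w1 F μ)) = 1 := by
        rw [trace_mul_wp τ (X 6) hP (commute_low τ), hone μ hμ, Nat.cast_one]
      have h1 := line_eigen (idem_mul_wp τ (X 6) hP (commute_low τ) _) htr
        (hcP.mul_right (wp_commute τ (X 6) (fun m => (hc6 m).map τ) _))
        (show (P * wp τ (X 6) (w1 F μ)) _ = τ (H k (k ^ 2)) (τ n0 v) by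
          rw [Module.End.mul_apply, wp_apply τ (X 6) (χ := w1 F μ) h6, wp_apply τ e3 hwt])
      have h2 : τ (H ω⁻¹ 1) v = t' • v := line_eigen (wp_mul_self τ e3 _)
        (by rw [trace_wp, show mult τ e3 (w3 F 0 0 1) = wA τ 0 0 1 from rfl,
          wA_low τ h3 0 one_ne_zero, hm, Nat.cast_one])
        (wp_conj τ e3 (χ := w3 F 0 0 1) (χ' := w3 F 0 0 1) (f := Equiv.ofBijective _
          (Finite.injective_iff_bijective.1
            (show Function.Injective fun p : F × F × F => (p.1, ((ω⁻¹ : Fˣ) : F) * p.2.1, p.2.2) from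
              fun p n h => by simpa [Prod.ext_iff] using h)))
          (fun p => c_e3 (by rw [inv_pow, hω, inv_one]) p.1 p.2.1 p.2.2)
          fun p => by simp [w3_apply])
        (wp_apply τ e3 hwv)
      have e2 : c * (H k (k ^ 2) * n0) = H k (k ^ 2) * n0 * H ω⁻¹ 1 := by
        rw [mul_assoc _ n0, n0_H, one_div, inv_inv, ← mul_assoc, ← mul_assoc, H_mul, H_mul,
          mul_comm ω, mul_comm (1 : Fˣ)]
      rw [← apply_mul_apply, ← apply_mul_apply, mul_assoc c, e2, apply_mul_apply, h2, map_smul] at h1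
      refine smul_left_injective ℂ (apply_ne_zero τ (H k (k ^ 2) * n0) hv) ?_
      show _ • τ (H k (k ^ 2) * n0) v = t' • τ (H k (k ^ 2) * n0) v
      rw [apply_mul_apply] at h1 ⊢
      exact h1.symm
    -- assembling
    have hPc : LinearMap.trace ℂ V (τ c * P) = ((Fintype.card F : ℂ) - 1) * t' := by
      conv_lhs => rw [← mul_one P, ← sum_wp τ (X 6), Finset.mul_sum, Finset.mul_sum, map_sum,
        ← (Equiv.ofBijective _ (w1_bijective (F := F))).sum_comp]
      simp only [Equiv.ofBijective_apply]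
      rw [sum_two _ t' fun μ hμ => hline μ hμ]
      have h00 : P * wp τ (X 6) (w1 F 0) = 0 :=
        LinearMap.range_eq_bot.1 (Submodule.finrank_eq_zero.1 hzero)
      rw [h00, mul_zero, map_zero, zero_add, nsmul_eq_mul, Nat.cast_sub (by omega), Nat.cast_one]
    conv_lhs => rw [← mul_one (τ c), ← sum_wp τ e3, Finset.mul_sum, map_sum, sum_w3]
    have hinner : ∀ l, ∑ β, ∑ r, LinearMap.trace ℂ V (τ c * wp τ e3 (w3 F l β r)) = ∑ r, t l r :=
      fun l => Finset.sum_eq_single (0 : F)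
        (fun β _ hβ => Finset.sum_eq_zero fun r _ => hmoved l β r hβ) (by simp)
    simp only [hinner]
    rw [sum_two _ ((Fintype.card F : ℂ) * t 1 0) fun l hl => by
        rw [Finset.sum_congr rfl fun r _ => tfull l r hl, Finset.sum_const, Finset.card_univ,
          nsmul_eq_mul],
      sum_two _ (t 1 0) fun r hr => tlow r hr, ← tlow 1 one_ne_zero]
    show LinearMap.trace ℂ V (τ c * P) + _ + _ = _
    rw [hPc]
    simp only [nsmul_eq_mul, Nat.cast_sub (show 1 ≤ Fintype.card F by omega), Nat.cast_one, t]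
    ring
  have hω' : ω⁻¹ ^ 3 = 1 := by rw [inv_pow, hω, inv_one]
  have hω1' : ω⁻¹ ≠ 1 := fun e => hω1 (inv_eq_one.1 e)
  have e1 := key hω hω1
  have e2 := key hω' hω1'
  rw [inv_inv] at e2
  have hconj : LinearMap.trace ℂ V (τ (H ω⁻¹ 1)) = LinearMap.trace ℂ V (τ (H ω 1)) := by
    have h : n0 * H ω 1 * n0⁻¹ = H ω⁻¹ 1 := by rw [n0_H, one_div]; group
    rw [← h, map_mul τ, map_mul τ, LinearMap.trace_mul_comm, ← mul_assoc, ← map_mul τ, inv_mul_cancel,
      map_one, one_mul]
  rw [hconj] at e2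
  set t := LinearMap.trace ℂ V (τ (H ω 1) * wp τ e3 (w3 F 0 0 1))
  set t' := LinearMap.trace ℂ V (τ (H ω⁻¹ 1) * wp τ e3 (w3 F 0 0 1))
  have hq1 : (Fintype.card F : ℂ) - 1 ≠ 0 :=
    sub_ne_zero.2 (by exact_mod_cast (by omega : Fintype.card F ≠ 1))
  have hq0 : (Fintype.card F : ℂ) ≠ 0 := Nat.cast_ne_zero.2 (by omega)
  have htt : t = t' := by
    have : ((Fintype.card F : ℂ) * ((Fintype.card F : ℂ) - 1)) * (t - t') = 0 := by
      linear_combination e2 - e1
    exact sub_eq_zero.1 ((mul_eq_zero.1 this).resolve_left (mul_ne_zero hq0 hq1))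
  -- the scalar is one
  obtain ⟨v, hv, hwv⟩ := exists_wt τ e3 (χ := w3 F 0 0 1) (by
    rw [show mult τ e3 (w3 F 0 0 1) = wA τ 0 0 1 from rfl, wA_low τ h3 0 one_ne_zero, hm]
    exact one_ne_zero)
  have hev : ∀ {ω : Fˣ}, ω ^ 3 = 1 →
      τ (H ω 1) v = LinearMap.trace ℂ V (τ (H ω 1) * wp τ e3 (w3 F 0 0 1)) • v := fun {ω} hω =>
    line_eigen (wp_mul_self τ e3 _)
      (by rw [trace_wp, show mult τ e3 (w3 F 0 0 1) = wA τ 0 0 1 from rfl,
        wA_low τ h3 0 one_ne_zero, hm, Nat.cast_one])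
      (wp_conj τ e3 (χ := w3 F 0 0 1) (χ' := w3 F 0 0 1) (f := Equiv.ofBijective _
        (Finite.injective_iff_bijective.1
          (show Function.Injective fun p : F × F × F => (p.1, (ω : F) * p.2.1, p.2.2) from
            fun p n h => by simpa [Prod.ext_iff] using h)))
        (fun p => c_e3 hω p.1 p.2.1 p.2.2) fun p => by simp [w3_apply])
      (wp_apply τ e3 hwv)
  have hd : t * t = 1 := smul_left_injective ℂ hv (by
    have h := apply_mul_apply τ (H ω⁻¹ 1) (H ω 1) v
    rw [H_mul, inv_mul_cancel, one_mul, H_one, map_one, hev hω, map_smul, hev hω', smul_smul,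
      show LinearMap.trace ℂ V (τ (H ω⁻¹ 1) * wp τ e3 (w3 F 0 0 1)) = t from htt.symm] at h
    show (t * t) • v = (1 : ℂ) • v
    rw [one_smul]
    exact h.symm)
  have hc : t * t * t = 1 := smul_left_injective ℂ hv (by
    have h := apply_mul_apply τ (H ω 1 * H ω 1) (H ω 1) v
    rw [H_pow_three hω, map_one, apply_mul_apply, hev hω, map_smul, hev hω, map_smul, map_smul,
      hev hω, smul_smul, smul_smul] at h
    show (t * t * t) • v = (1 : ℂ) • v
    rw [one_smul]
    exact h.symm)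
  rw [hd, one_mul] at hc
  rw [e1, ← htt, hc]
  ring

/-- the degree `q³ - 1` does not occur -/
theorem ne_pred_cube [τ.IsIrreducible] (h3 : (3 : F) ≠ 0) (hq : 5 ≤ Fintype.card F)
    (hmod : Fintype.card F % 3 = 1) (hk : 2 ≤ finrank ℂ V) :
    finrank ℂ V ≠ Fintype.card F ^ 3 - 1 := by
  classical
  intro he
  have hd3 : 3 ∣ Fintype.card Fˣ := by rw [Fintype.card_units]; omega
  haveI : Fact (Nat.Prime 3) := ⟨Nat.prime_three⟩
  obtain ⟨ω, hω⟩ := exists_prime_orderOf_dvd_card 3 hd3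
  have hω3 : ω ^ 3 = 1 := by rw [← hω]; exact pow_orderOf_eq_one ω
  have hω1 : ω ≠ 1 := by rintro rfl; simp at hω
  have h1 : 1 ≤ Fintype.card F ^ 3 := Nat.one_le_pow _ _ (by omega)
  obtain ⟨hm, -, hsum⟩ := (notThree_bound τ h3 hq hk).2 (by omega)
  have ht := trace_order_three τ h3 hq hω3 hω1 hm (by omega)
  have hint := CfsgLib.Chars.isIntegral_index_mul_character_div τ (H ω 1)
  set ι := (Subgroup.centralizer ({H ω 1} : Set (GG F))).index
  set k := finrank ℂ V
  have hval : τ.character (H ω 1) = ((Fintype.card F ^ 2 + Fintype.card F - 2 : ℕ) : ℂ) := by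
    rw [Representation.character, ht, Nat.cast_sub (by nlinarith)]
    push_cast; rfl
  rw [hval, ← Nat.cast_mul] at hint
  have hdvd := CfsgLib.Chars.dvd_of_isIntegral_div (show k ≠ 0 by omega) hint
  have h2 : k ∣ Fintype.card F ^ 3 * (Fintype.card F ^ 3 + 1) * (Fintype.card F ^ 2 + Fintype.card F - 2) :=
    dvd_trans hdvd (mul_dvd_mul_right (index_dvd hω3) _)
  have hk' : Fintype.card F ^ 3 = k + 1 := by omega
  have e : Fintype.card F ^ 3 * (Fintype.card F ^ 3 + 1) * (Fintype.card F ^ 2 + Fintype.card F - 2) =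
      k * ((k + 3) * (Fintype.card F ^ 2 + Fintype.card F - 2)) + 2 * (Fintype.card F ^ 2 + Fintype.card F - 2) := by rw [hk']; ring
  rw [e, Nat.dvd_add_right (dvd_mul_right _ _)] at h2
  have h5 : 2 * (Fintype.card F ^ 2 + Fintype.card F - 2) < k := by
    have : 5 * Fintype.card F ^ 2 ≤ Fintype.card F ^ 3 := by rw [pow_succ' (Fintype.card F) 2]; exact Nat.mul_le_mul_right _ hq
    have : 5 * Fintype.card F ≤ Fintype.card F ^ 2 := by rw [sq]; exact Nat.mul_le_mul_right _ hq
    omega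
  have := Nat.le_of_dvd (by nlinarith [Nat.sub_pos_of_lt (show 2 < Fintype.card F ^ 2 + Fintype.card F by nlinarith)]) h2
  omega

end CfsgLib.CharsMore.G2MinDeg
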