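import Cfsg.Agent.Lib.CharsMore.G2MinDeg.ThreeSharp

/-!
# Characteristic three: counting the fixed vectors of two conjugate subgroups

`X₁₀ X₇` and `X₁₁ X₉` are conjugate; comparing their fixed spaces gives the last bound, and three
degrees are ruled out by the order of the group.
-/

set_option autoImplicit false
set_option maxRecDepth 100000

namespace CfsgLib.CharsMore.G2MinDeg

open Cfsg.Lie CfsgLib.Chev Module CfsgLib.CharsMore.D4MinDeg

variable {F : Type*} [Field F]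

/-- `X₁₀ X₇` -/
noncomputable def e107 : AddChar (F × F) (GG F) := prodChar (X 10) (X 7) fun a b => (c7_10 b a).symm

/-- `X₁₁ X₉` -/
noncomputable def e119 : AddChar (F × F) (GG F) := prodChar (X 11) (X 9) fun a b => (c9_11 b a).symm

lemma e107_apply (p : F × F) : e107 p = X 10 p.1 * X 7 p.2 := prodChar_apply _ _ _ p

lemma e119_apply (p : F × F) : e119 p = X 11 p.1 * X 9 p.2 := prodChar_apply _ _ _ p

lemma pair_conj (p : F × F) : n0 * n1 * e107 p = e119 p * (n0 * n1) := by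
  rw [e107_apply, e119_apply]
  calc n0 * n1 * (X 10 p.1 * X 7 p.2) = n0 * (n1 * X 10 p.1) * X 7 p.2 := by group
    _ = n0 * X 11 p.1 * (n1 * X 7 p.2) := by rw [n1_10]; group
    _ = X 11 p.1 * (n0 * X 8 p.2) * n1 := by rw [n1_7, n0_11]; group
    _ = _ := by rw [n0_8]; group

variable (F) in
/-- the first two coordinates -/
def emb12 : F × F →+ F × F × F × F where
  toFun m := (m.1, m.2, 0, 0)
  map_zero' := rfl
  map_add' m n := by simp

variable (F) in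
/-- the last coordinate -/
def emb4 : F →+ F × F × F × F where
  toFun d := (0, 0, 0, d)
  map_zero' := rfl
  map_add' m n := by simp

variable (h3 : (3 : F) = 0)

lemma e4_emb12 : (e4 h3).compAddMonoidHom (emb12 F) = e119 := by
  refine DFunLike.ext _ _ fun m => ?_
  show e4 h3 (m.1, m.2, 0, 0) = e119 m
  rw [e4_apply, e119_apply]
  simp

lemma e4_emb4 : (e4 h3).compAddMonoidHom (emb4 F) = X 10 := by
  refine DFunLike.ext _ _ fun d => ?_
  show e4 h3 (0, 0, 0, d) = X 10 d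
  rw [e4_apply]
  simp

variable [Fintype F]

lemma w4_emb12 (l β ν r : F) :
    (w4 F l β ν r).compAddMonoidHom (emb12 F) = 1 ↔ l = 0 ∧ β = 0 := by
  refine ⟨fun h => ⟨psi_inj fun x => ?_, psi_inj fun x => ?_⟩, fun ⟨h1, h2⟩ => ?_⟩
  · have := DFunLike.congr_fun h (x, 0)
    simpa [w4_apply, emb12] using this
  · have := DFunLike.congr_fun h (0, x)
    simpa [w4_apply, emb12] using this
  · refine DFunLike.ext _ _ fun m => ?_
    simp [w4_apply, emb12, h1, h2]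

lemma w4_emb4 (l β ν r : F) : (w4 F l β ν r).compAddMonoidHom (emb4 F) = 1 ↔ r = 0 := by
  refine ⟨fun h => psi_inj fun x => ?_, fun h => ?_⟩
  · have := DFunLike.congr_fun h x
    simpa [w4_apply, emb4] using this
  · refine DFunLike.ext _ _ fun m => ?_
    simp [w4_apply, emb4, h]

variable {V : Type*} [AddCommGroup V] [Module ℂ V] (τ : Representation ℂ (GG F) V)

lemma wp_e107 : wp τ e107 (1 : AddChar (F × F) ℂ) = wp τ (X 10) 1 * wp τ (X 7) 1 := by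
  simp only [wp, AddChar.one_apply, one_smul, smul_mul_smul_comm, Finset.sum_mul_sum,
    ← Fintype.sum_prod_type', e107_apply, map_mul, Fintype.card_prod, Nat.cast_mul, mul_inv]

lemma wp_pair_conj :
    τ (n0 * n1) * wp τ e107 (1 : AddChar (F × F) ℂ) = wp τ e119 1 * τ (n0 * n1) := by
  simp only [wp, mul_smul_comm, smul_mul_assoc, Finset.mul_sum, Finset.sum_mul]
  refine congrArg _ (Finset.sum_congr rfl fun p _ => ?_)
  rw [← map_mul, pair_conj, map_mul, AddChar.one_apply]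

lemma trace_zero_of_scale {g : GG F} {A : Module.End ℂ V} {c : ℂ} (h : τ g * A = c • (A * τ g))
    (hc : c ≠ 1) : LinearMap.trace ℂ V A = 0 := by
  have e : LinearMap.trace ℂ V A = c * LinearMap.trace ℂ V A := by
    calc LinearMap.trace ℂ V A = LinearMap.trace ℂ V (τ g⁻¹ * (τ g * A)) := by
          rw [← mul_assoc, ← map_mul, inv_mul_cancel, map_one, one_mul]
      _ = c * LinearMap.trace ℂ V (τ g⁻¹ * (A * τ g)) := by
          rw [h, mul_smul_comm, map_smul, smul_eq_mul]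
      _ = _ := by
          rw [LinearMap.trace_mul_comm, mul_assoc, ← map_mul, mul_inv_cancel, map_one, mul_one]
  by_contra h0
  exact hc ((mul_eq_right₀ h0).1 e.symm)

lemma commute_X7 (l ν r t : F) : Commute (wp τ (e4 h3) (w4 F l 0 ν r)) (τ (X 7 t)) :=
  (wp_conj τ (e4 h3) (f := Equiv.ofBijective _ (Finite.injective_iff_bijective.1 (inj7 t)))
    (fun m => X7_e4 h3 t m.1 m.2.1 m.2.2.1 m.2.2.2) fun m => by simp [w4_apply]).symm

variable [FiniteDimensional ℂ V]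

/-- the fixed space of `X₇` inside a weight -/
noncomputable def t7 (l β ν : F) : ℂ :=
  LinearMap.trace ℂ V (wp τ (X 7) 1 * wp τ (e4 h3) (w4 F l β ν 0))

lemma sum_t7 : ∑ l, ∑ β, ∑ ν, t7 h3 τ l β ν =
    ((∑ ν, ∑ r, wB h3 τ 0 0 ν r : ℕ) : ℂ) := by
  classical
  have e2 : mult τ e119 (1 : AddChar (F × F) ℂ) = ∑ ν, ∑ r, wB h3 τ 0 0 ν r := by
    rw [← e4_emb12 h3, mult_comp, sum_w4]
    simp only [w4_emb12, ite_and]
    simp [wB]
  rw [← e2, ← show mult τ e107 (1 : AddChar (F × F) ℂ) = mult τ e119 1 from Nat.cast_injective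
    (R := ℂ) (by rw [← trace_wp, ← trace_wp]; exact trace_eq_of_conj τ (wp_pair_conj τ)),
    ← trace_wp, wp_e107, LinearMap.trace_mul_comm]
  conv_rhs => rw [← e4_emb4 h3, wp_comp, sum_w4]
  simp only [w4_emb4, Finset.mul_sum, map_sum, Finset.sum_ite_eq', Finset.mem_univ, if_true]
  rfl

omit [FiniteDimensional ℂ V] in
lemma t7_moved {l β ν t : F} (hβ : β ≠ 0) (ht : t ≠ 0) :
    LinearMap.trace ℂ V (τ (X 7 t) * wp τ (e4 h3) (w4 F l β ν 0)) = 0 := by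
  refine trace_moved τ (R' := wp τ (e4 h3) (w4 F l β (ν - β * t) 0)) (wp_mul_self τ (e4 h3) _) ?_ ?_
  · exact wp_conj τ (e4 h3) (f := Equiv.ofBijective _ (Finite.injective_iff_bijective.1 (inj7 t)))
      (fun m => X7_e4 h3 t m.1 m.2.1 m.2.2.1 m.2.2.2) fun m => by
        simp only [Equiv.ofBijective_apply, w4_apply]; congr 1; ring
  · refine wp_mul_of_ne τ (e4 h3) fun e => ?_
    have h := (w4_inj.1 e).2.2.1
    exact mul_ne_zero hβ ht (by linear_combination h)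

lemma t7_avg {l β ν : F} (hm : ∀ t, t ≠ 0 →
      LinearMap.trace ℂ V (τ (X 7 t) * wp τ (e4 h3) (w4 F l β ν 0)) = 0) :
    t7 h3 τ l β ν = (Fintype.card F : ℂ)⁻¹ * wB h3 τ l β ν 0 := by
  rw [t7, trace_avg τ (X 7) hm, trace_wp]; rfl

lemma t7_eq_mi (l ν : F) :
    t7 h3 τ l 0 ν = mi τ (X 7) (wp τ (e4 h3) (w4 F l 0 ν 0)) 1 := by
  rw [t7, LinearMap.trace_mul_comm,
    trace_mul_wp τ (X 7) (wp_mul_self τ (e4 h3) _) (commute_X7 h3 τ l ν 0)]

lemma mi_le_wB (l ν : F) :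
    mi τ (X 7) (wp τ (e4 h3) (w4 F l 0 ν 0)) 1 ≤ wB h3 τ l 0 ν 0 :=
  Submodule.finrank_mono (LinearMap.range_comp_le_range _ _)

variable (hq : 9 ≤ Fintype.card F) (hC : wB h3 τ 1 1 0 0 = 1) (ha : wB h3 τ 0 1 0 0 = 1)
  (ha₀ : wB h3 τ 1 0 0 0 = 1) (hG : wB h3 τ 0 0 0 1 = Fintype.card F)
  (hlow : ∀ ν r : F, ν ≠ 0 → r ≠ 0 → wB h3 τ 0 0 ν r = 0)

include hC in
lemma t7_ab {l β : F} (hl : l ≠ 0) (hβ : β ≠ 0) (ν : F) :
    t7 h3 τ l β ν = (Fintype.card F : ℂ)⁻¹ := by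
  rw [t7_avg h3 τ fun t ht => t7_moved h3 τ hβ ht, wB_top h3 τ hl hβ, hC, Nat.cast_one, mul_one]

include ha in
lemma t7_mid {β : F} (hβ : β ≠ 0) (ν : F) : t7 h3 τ 0 β ν = (Fintype.card F : ℂ)⁻¹ := by
  rw [t7_avg h3 τ fun t ht => t7_moved h3 τ hβ ht, wB_mid_zero h3 τ hβ, ha, Nat.cast_one, mul_one]

include hC in
lemma t7_top_nu : ∃ T : ℕ, T ≤ 1 ∧ ∀ l ν : F, l ≠ 0 → ν ≠ 0 → t7 h3 τ l 0 ν = T := by
  refine ⟨mi τ (X 7) (wp τ (e4 h3) (w4 F 1 0 1 0)) 1,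
    (mi_le_wB h3 τ 1 1).trans ((wB_top_nu h3 τ one_ne_zero one_ne_zero 0).trans hC).le,
    fun l ν hl hν => ?_⟩
  rw [t7_eq_mi]
  congr 1
  set A := Units.mk0 (ν / l) (div_ne_zero hν hl)
  set B := Units.mk0 l⁻¹ (inv_ne_zero hl)
  refine (mi_conj τ (X 7) (wp_mul_self τ (e4 h3) _) (commute_X7 h3 τ 1 1 0)
    (f := Equiv.mulLeft₀ ((A : F) ^ 2 / B) (by simp)) (wp_mul_self τ (e4 h3) _)
    (commute_X7 h3 τ l ν 0) (g := H A B) ?_ (H7 A B) fun m => rfl).symm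
  exact wp_conj τ (e4 h3) (f := Equiv.ofBijective _ (Finite.injective_iff_bijective.1 (injH' A B)))
    (fun m => H_e4 h3 A B m.1 m.2.1 m.2.2.1 m.2.2.2) fun m => by
      simp only [Equiv.ofBijective_apply, w4_apply, A, B, Units.val_mk0]
      congr 1
      field_simp
      ring

include hq ha₀ in
lemma t7_top_zero {l : F} (hl : l ≠ 0) : t7 h3 τ l 0 0 = 1 := by
  have h1 : mult τ (e4 h3) (w4 F l 0 0 0) = 1 := (wB_top_zero h3 τ hl 0).trans ha₀
  obtain ⟨v, hv, hw⟩ := exists_wt τ (e4 h3) (χ := w4 F l 0 0 0) (by rw [h1]; exact one_ne_zero)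
  obtain ⟨α, hα⟩ := exists_eigChar τ (X 7) hv fun t => exists_smul τ (e4 h3) h1 hv hw
    (by simpa using wt4_seven h3 τ hw t)
  obtain ⟨z, hz⟩ := exists_pow_ne_one (F := F) (n := 2) (by norm_num) (by omega)
  obtain ⟨c, hc⟩ := exists_smul τ (e4 h3) h1 hv hw
    (wt4_H h3 τ z 1 (l := l) (β := 0) (ν := 0) (r := 0) (by simpa using hw))
  have h7 : ∀ t, τ (X 7 t) v = v := fun t =>
    eigen_invariant τ hv hα hc.symm (k := (z : F) ^ 2)
      (fun e => hz 2 (by norm_num) le_rfl (Units.ext (by simpa using e)))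
      (fun m => by rw [H7]; simp) t
  rw [t7_eq_mi]
  norm_cast
  refine le_antisymm ((mi_le_wB h3 τ l 0).trans h1.le) ?_
  exact mi_pos τ (X 7) (wp_mul_self τ (e4 h3) _) (commute_X7 h3 τ l 0 0) hv
    (wp_apply τ (e4 h3) hw) fun t => by rw [h7, AddChar.one_apply, one_smul]

include hC ha hlow in
lemma t7_low {ν : F} (hν : ν ≠ 0) : t7 h3 τ 0 0 ν = 1 := by
  classical
  have hmult : wB h3 τ 0 0 ν 0 = Fintype.card F := by
    have e := sum_low_nu h3 τ hν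
    rw [sum_two _ 0 fun r hr => hlow ν r hν hr, smul_zero, add_zero, ha, hC, mul_one] at e
    have := Fintype.card_pos (α := F)
    omega
  rw [t7_avg h3 τ fun t ht => ?_, hmult, inv_mul_cancel₀ (Nat.cast_ne_zero.2 Fintype.card_ne_zero)]
  obtain ⟨y, hy⟩ : ∃ y, psi F (ν * t * y) ≠ 1 := by
    obtain ⟨x, hx⟩ := AddChar.ne_one_iff.1 (psi_primitive (mul_ne_zero hν ht))
    exact ⟨x, hx⟩
  refine trace_zero_of_scale τ (g := X 6 y) (LinearMap.ext fun x => ?_) hy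
  simp only [Module.End.mul_apply, LinearMap.smul_apply]
  set w := wp τ (e4 h3) (w4 F 0 0 ν 0) x
  have hwP : IsWt τ (e4 h3) (w4 F 0 0 ν 0) w := isWt_wp τ (e4 h3) _ x
  rw [← Module.End.mul_apply (wp τ (e4 h3) _) (τ (X 6 y)), (commute_X6 h3 τ 0 ν 0 y).eq,
    Module.End.mul_apply, ← apply_mul_apply, s67]
  simp only [apply_mul_apply, wt4_eleven h3 τ hwP, wt4_ten h3 τ hwP, wt4_nine h3 τ hwP,
    wt4_eight h3 τ hwP, map_smul, smul_smul, ← AddChar.map_add_eq_mul]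
  congr 2
  ring

include hq in
lemma fixed_lines (hJ : ∀ r : F, r ≠ 0 → mi τ (X 6) (wp τ (e4 h3) (w4 F 0 0 0 r)) (w1 F 0) = 1) :
    Fintype.card F - 1 ≤ mi τ (X 7) (wp τ (e4 h3) (w4 F 0 0 0 0)) 1 := by
  classical
  have hfix6 : ∀ {r : F} {u : V}, IsWt τ (e4 h3) (w4 F 0 0 0 0) u →
      (∀ y, τ (X 6 y) u = psi F (r * y) • u) →
      IsWt τ (e4 h3) (w4 F 0 0 0 r) (τ n0 u) ∧ ∀ y, τ (X 6 y) (τ n0 u) = τ n0 u := by
    intro r u hw h6
    refine ⟨by simpa using wt4_n0 h3 τ hw h6, fun y => ?_⟩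
    rw [← apply_mul_apply, show X 6 y * n0 = n0 * X 10 (-y) by rw [n0_10, neg_neg], apply_mul_apply,
      wt4_ten h3 τ hw]
    simp
  have huniq : ∀ {κ : F} {u u' : V}, κ ≠ 0 → u ≠ 0 → IsWt τ (e4 h3) (w4 F 0 0 0 0) u →
      (∀ y, τ (X 6 y) u = psi F (κ * y) • u) → IsWt τ (e4 h3) (w4 F 0 0 0 0) u' →
      (∀ y, τ (X 6 y) u' = psi F (κ * y) • u') → ∃ c : ℂ, c • u = u' := by
    intro κ u u' hκ hu hw h6 hw' h6'
    obtain ⟨h1, h1'⟩ := hfix6 hw h6
    obtain ⟨h2, h2'⟩ := hfix6 hw' h6'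
    set P := wp τ (e4 h3) (w4 F 0 0 0 κ)
    have hP : IsIdempotentElem P := wp_mul_self τ (e4 h3) _
    have hc : ∀ m, Commute P (τ (X 6 m)) := commute_X6 h3 τ 0 0 κ
    have hR : ∀ x, IsWt τ (e4 h3) (w4 F 0 0 0 κ) x → (∀ y, τ (X 6 y) x = x) →
        (P * wp τ (X 6) (w1 F 0)) x = x := fun x hx hx6 => by
      rw [Module.End.mul_apply, wp_apply τ (X 6) (fun y => by
        rw [hx6, w1_apply, zero_mul, AddChar.map_zero_eq_one, one_smul]), wp_apply τ (e4 h3) hx]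
    obtain ⟨c, hcc⟩ := line_scalar (idem_mul_wp τ (X 6) hP hc _)
      (by rw [trace_mul_wp τ (X 6) hP hc, hJ κ hκ, Nat.cast_one]) (hR _ h1 h1') (hR _ h2 h2')
      (apply_ne_zero τ _ hu)
    refine ⟨c, ?_⟩
    rw [← map_smul] at hcc
    have := congrArg (τ n0⁻¹) hcc
    simpa only [apply_inv_apply] using this
  have hex : ∀ κ : F, κ ≠ 0 → ∃ u, u ≠ 0 ∧ IsWt τ (e4 h3) (w4 F 0 0 0 0) u ∧
      (∀ y, τ (X 6 y) u = psi F (κ * y) • u) ∧ ∀ t, τ (X 7 t) u = u := by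
    intro κ hκ
    obtain ⟨v, hv, hPv, h6⟩ := exists_mi τ (X 6) (P := wp τ (e4 h3) (w4 F 0 0 0 (-κ)))
      (χ := w1 F 0) (by rw [hJ _ (neg_ne_zero.2 hκ)]; exact one_ne_zero)
      (wp_mul_self τ (e4 h3) _) (commute_X6 h3 τ 0 0 (-κ))
    have hwv : IsWt τ (e4 h3) (w4 F 0 0 0 (-κ)) v := hPv ▸ isWt_wp τ (e4 h3) _ v
    set u := τ n0 v with hu
    have hw : IsWt τ (e4 h3) (w4 F 0 0 0 0) u := by
      simpa using wt4_n0 h3 τ hwv (K := 0) fun y => by rw [h6, w1_apply]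
    have h6u : ∀ y, τ (X 6 y) u = psi F (κ * y) • u := fun y => by
      rw [hu, ← apply_mul_apply, show X 6 y * n0 = n0 * X 10 (-y) by rw [n0_10, neg_neg],
        apply_mul_apply, wt4_ten h3 τ hwv, map_smul, neg_mul_neg]
    have hu0 : u ≠ 0 := apply_ne_zero τ _ hv
    obtain ⟨α, hα⟩ := exists_eigChar τ (X 7) hu0 fun t => huniq hκ hu0 hw h6u
      (by simpa using wt4_seven h3 τ hw t)
      fun y => by rw [six_seven h3 τ hw h6u t y]; congr 2; ring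
    obtain ⟨z, hz⟩ := exists_pow_ne_one (F := F) (n := 1) (by norm_num) (by omega)
    obtain ⟨c, hc⟩ := huniq hκ hu0 hw h6u (u' := τ (H (z ^ 2) (z ^ 3)) u)
      (wt4_H h3 τ _ _ (l := 0) (β := 0) (ν := 0) (r := 0) (by simpa using hw)) fun y => by
        rw [← apply_mul_apply, show X 6 y * H (z ^ 2) (z ^ 3) = H (z ^ 2) (z ^ 3) * X 6 y by
          rw [H6]; congr 2; push_cast; field_simp, apply_mul_apply, h6u, map_smul]
    refine ⟨u, hu0, hw, h6u, eigen_invariant τ hu0 hα hc.symm (k := (z : F))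
      (fun e => hz 1 one_pos le_rfl (Units.ext (by simpa using e))) fun m => ?_⟩
    rw [H7]; congr 3; push_cast; field_simp
  choose u hu0 huw hu6 hu7 using fun κ : {κ : F // κ ≠ 0} => hex κ.1 κ.2
  set P := wp τ (e4 h3) (w4 F 0 0 0 0)
  have hmem : ∀ κ, u κ ∈ LinearMap.range (P * wp τ (X 7) 1) := fun κ => ⟨u κ, by
    rw [Module.End.mul_apply, wp_apply τ (X 7) (fun t => by rw [hu7, AddChar.one_apply, one_smul]),
      wp_apply τ (e4 h3) (huw κ)]⟩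
  have hli : LinearIndependent ℂ fun κ => (⟨u κ, hmem κ⟩ : LinearMap.range (P * wp τ (X 7) 1)) := by
    refine LinearIndependent.of_comp (LinearMap.range (P * wp τ (X 7) 1)).subtype ?_
    rw [Fintype.linearIndependent_iff]
    intro g hg i
    have h := congrArg (wp τ (X 6) (w1 F i.1)) hg
    simp only [Function.comp_apply, Submodule.coe_subtype, map_sum, map_smul, map_zero] at h
    rw [Finset.sum_eq_single i (fun j _ hj => by
        rw [wp_apply_eq_zero τ (X 6) (χ' := w1 F j.1) (hu6 j)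
          (fun e => hj (Subtype.ext (w1_bijective.injective e).symm)), smul_zero]) (by simp),
      wp_apply τ (X 6) (χ := w1 F i.1) (hu6 i)] at h
    exact (smul_eq_zero.1 h).resolve_right (hu0 i)
  refine le_trans (le_of_eq ?_) hli.fintype_card_le_finrank
  rw [Fintype.card_subtype_compl, Fintype.card_subtype_eq]

include hq hC ha ha₀ hG hlow in
/-- the trivial weight is not small -/
lemma low_large (hJ : ∀ r : F, r ≠ 0 → mi τ (X 6) (wp τ (e4 h3) (w4 F 0 0 0 r)) (w1 F 0) = 1) :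
    2 * (Fintype.card F - 1) ≤ wB h3 τ 0 0 0 0 := by
  classical
  obtain ⟨T, hT, hTeq⟩ := t7_top_nu h3 τ hC
  have hF := fixed_lines h3 τ hq hJ
  have hle := mi_le_wB h3 τ 0 0
  set F0 := mi τ (X 7) (wp τ (e4 h3) (w4 F 0 0 0 0)) 1
  have hqc : (Fintype.card F : ℂ) ≠ 0 := Nat.cast_ne_zero.2 Fintype.card_ne_zero
  have hrhs : ∑ ν, ∑ r, wB h3 τ 0 0 ν r = wB h3 τ 0 0 0 0 +
      (Fintype.card F - 1) * Fintype.card F + (Fintype.card F - 1) * Fintype.card F := by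
    have hν : ∀ ν : F, ν ≠ 0 → ∑ r, wB h3 τ 0 0 ν r = Fintype.card F := fun ν hν => by
      rw [sum_low_nu h3 τ hν, ha, hC]; omega
    rw [sum_two _ _ hν, sum_two _ _ fun r hr => (wB_low_r h3 τ hr).trans hG]
    simp only [smul_eq_mul]
  have hlhs : ∑ l, ∑ β, ∑ ν, t7 h3 τ l β ν =
      (((Fintype.card F - 1) * (Fintype.card F - 1) + (Fintype.card F - 1) * ((Fintype.card F - 1) * T) +
        (Fintype.card F - 1) + (Fintype.card F - 1) + (Fintype.card F - 1) + F0 : ℕ) : ℂ) := by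
    have h1 : ∀ l : F, l ≠ 0 → ∑ β, ∑ ν, t7 h3 τ l β ν =
        (((Fintype.card F - 1) + ((Fintype.card F - 1) * T + 1) : ℕ) : ℂ) := fun l hl => by
      rw [sum_two _ ((Fintype.card F : ℂ) * (Fintype.card F : ℂ)⁻¹) fun β hβ => by
          rw [Finset.sum_congr rfl fun ν _ => t7_ab h3 τ hC hl hβ ν, Finset.sum_const,
            Finset.card_univ, nsmul_eq_mul],
        sum_two _ _ fun ν hν => hTeq l ν hl hν, t7_top_zero h3 τ hq ha₀ hl,
        mul_inv_cancel₀ hqc]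
      simp only [nsmul_eq_mul, mul_one, Nat.cast_add, Nat.cast_mul, Nat.cast_one]
      ring
    rw [sum_two _ _ h1, sum_two _ ((Fintype.card F : ℂ) * (Fintype.card F : ℂ)⁻¹) fun β hβ => by
        rw [Finset.sum_congr rfl fun ν _ => t7_mid h3 τ ha hβ ν, Finset.sum_const,
          Finset.card_univ, nsmul_eq_mul],
      sum_two _ _ fun ν hν => t7_low h3 τ hC ha hlow hν, t7_eq_mi, mul_inv_cancel₀ hqc]
    simp only [nsmul_eq_mul, mul_one, Nat.cast_add, Nat.cast_mul, Nat.cast_one, F0]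
    ring
  have key := sum_t7 h3 τ
  rw [hlhs, Nat.cast_inj, hrhs] at key
  obtain ⟨p, hp⟩ : ∃ p, Fintype.card F = p + 1 := ⟨Fintype.card F - 1, by omega⟩
  simp only [hp, Nat.add_sub_cancel] at *
  have h8 : p * 8 ≤ p * p := Nat.mul_le_mul_left _ (by omega)
  interval_cases T <;> simp only [mul_zero, mul_one, mul_add] at key <;> omega

omit hC ha ha₀ hG hlow in
include h3 hq in
/-- the bound in characteristic three -/
theorem three_bound [τ.IsIrreducible] (hk : 2 ≤ finrank ℂ V) :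
    Fintype.card F ^ 4 + Fintype.card F ^ 2 + 1 ≤ finrank ℂ V := by
  have hC0 := top_ne_zero h3 τ (by omega) hk
  rcases Nat.lt_or_ge (wB h3 τ 1 1 0 0) 2 with hC | hC
  swap
  · have hs := finrank_three h3 τ
    obtain ⟨p, hp⟩ : ∃ p, Fintype.card F = p + 1 := ⟨Fintype.card F - 1, by omega⟩
    simp only [hp, Nat.add_sub_cancel] at hs ⊢
    set X := p * (p * (p + 1) * (p + 1) + p * (p + 1))
    set Y := p * (p * (p + 1) + p)
    have h2 : X * 2 ≤ X * wB h3 τ 1 1 0 0 := Nat.mul_le_mul_left _ hC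
    have h2' : Y * 2 ≤ Y * wB h3 τ 1 1 0 0 := Nat.mul_le_mul_left _ hC
    have h8 : 8 * 8 ≤ p * p := Nat.mul_le_mul (by omega) (by omega)
    have : (p + 1) ^ 4 + (p + 1) ^ 2 + 1 ≤ X * 2 + Y * 2 := by
      simp only [X, Y]; nlinarith
    omega
  have hC1 : wB h3 τ 1 1 0 0 = 1 := by omega
  rcases three_sharp h3 τ hq hC1 with h | ⟨ha, ha₀, hG, hlow, hJ, hsum⟩
  · exact h
  have hE := low_large h3 τ hq hC1 ha ha₀ hG hlow hJ
  have hd := dvd_order τ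
  have hq2 : 1 ≤ Fintype.card F ^ 2 := Nat.one_le_pow _ _ (by omega)
  have hq6 : 1 ≤ Fintype.card F ^ 6 := Nat.one_le_pow _ _ (by omega)
  have hd' : (finrank ℂ V : ℤ) ∣ (Fintype.card F : ℤ) ^ 6 *
      (((Fintype.card F : ℤ) ^ 2 - 1) * ((Fintype.card F : ℤ) ^ 6 - 1)) := by
    have := Int.natCast_dvd_natCast.2 hd
    push_cast [Nat.cast_sub hq2, Nat.cast_sub hq6] at this
    exact this
  have hodd : ∃ m : ℤ, (Fintype.card F : ℤ) = 2 * m + 1 := by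
    haveI : CharP F 3 := by
      obtain ⟨p, hp⟩ := CharP.exists F
      have hd : p ∣ 3 := (CharP.cast_eq_zero_iff F p 3).1 (by exact_mod_cast h3)
      rcases CharP.char_is_prime_or_zero F p with hp' | hp'
      · rwa [← (Nat.prime_dvd_prime_iff_eq hp' Nat.prime_three).1 hd]
      · rw [hp'] at hd; simp at hd
    obtain ⟨n, -, hn⟩ := FiniteField.card F 3
    obtain ⟨m, hm⟩ : Odd (Fintype.card F) := hn ▸ (show Odd 3 by decide).pow
    exact ⟨m, by omega⟩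
  set Q : ℤ := (Fintype.card F : ℤ) with hQ
  set k : ℤ := (finrank ℂ V : ℤ) with hk'
  have h9 : 9 ≤ Q := by rw [hQ]; exact_mod_cast hq
  have hsum' : k + 2 * Q = Q ^ 4 + Q ^ 2 + (wB h3 τ 0 0 0 0 : ℤ) := by
    rw [hk', hQ]; exact_mod_cast hsum
  by_contra hlt
  have hlt' : k < Q ^ 4 + Q ^ 2 + 1 := by rw [hk', hQ]; exact_mod_cast (not_le.1 hlt)
  have hge : Q ^ 4 + Q ^ 2 - 2 ≤ k := by
    have : (2 * (Fintype.card F - 1) : ℤ) ≤ (wB h3 τ 0 0 0 0 : ℤ) := by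
      have := (Nat.cast_le (α := ℤ)).2 hE
      push_cast [Nat.cast_sub (show 1 ≤ Fintype.card F by omega)] at this
      exact this
    rw [← hQ] at this
    linarith
  obtain ⟨m, hm⟩ := hodd
  rcases (by omega : k = Q ^ 4 + Q ^ 2 - 2 ∨ k = Q ^ 4 + Q ^ 2 - 1 ∨ k = Q ^ 4 + Q ^ 2) with e | e | e
  · have hne : Q ^ 2 - 1 ≠ 0 := by nlinarith
    rw [e, show Q ^ 4 + Q ^ 2 - 2 = (Q ^ 2 - 1) * (Q ^ 2 + 2) by ring, mul_left_comm,
      mul_dvd_mul_iff_left hne] at hd'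
    have hco : IsCoprime (Q ^ 2 + 2) Q := ⟨-m, 1 + m * Q, by rw [hm]; ring⟩
    have h := dvd_sub (hco.pow_right.dvd_of_dvd_mul_left hd')
      (dvd_mul_right (Q ^ 2 + 2) (Q ^ 4 - 2 * Q ^ 2 + 4))
    rw [show Q ^ 6 - 1 - (Q ^ 2 + 2) * (Q ^ 4 - 2 * Q ^ 2 + 4) = -9 by ring, dvd_neg] at h
    have := Int.le_of_dvd (by norm_num) h
    nlinarith
  · rw [e] at hd'
    have hco : IsCoprime (Q ^ 4 + Q ^ 2 - 1) Q := ⟨-1, Q ^ 3 + Q, by ring⟩
    have h := dvd_sub (hco.pow_right.dvd_of_dvd_mul_left hd')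
      (dvd_mul_right (Q ^ 4 + Q ^ 2 - 1) (Q ^ 4 - 2 * Q ^ 2 + 3))
    rw [show (Q ^ 2 - 1) * (Q ^ 6 - 1) - (Q ^ 4 + Q ^ 2 - 1) * (Q ^ 4 - 2 * Q ^ 2 + 3) =
      -(6 * Q ^ 2 - 4) by ring, dvd_neg] at h
    have := Int.le_of_dvd (by nlinarith) h
    have h81 : 81 ≤ Q ^ 2 := by nlinarith
    nlinarith [mul_le_mul_of_nonneg_right h81 (sq_nonneg Q)]
  · rw [e] at hd'
    have h1 : Q ^ 2 + 1 ∣ Q ^ 6 * ((Q ^ 2 - 1) * (Q ^ 6 - 1)) :=
      (show Q ^ 2 + 1 ∣ Q ^ 4 + Q ^ 2 from ⟨Q ^ 2, by ring⟩).trans hd'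
    have hco : IsCoprime (Q ^ 2 + 1) Q := ⟨1, -Q, by ring⟩
    have h := dvd_sub (hco.pow_right.dvd_of_dvd_mul_left h1)
      (dvd_mul_right (Q ^ 2 + 1) (Q ^ 6 - 2 * Q ^ 4 + 2 * Q ^ 2 - 3))
    rw [show (Q ^ 2 - 1) * (Q ^ 6 - 1) - (Q ^ 2 + 1) * (Q ^ 6 - 2 * Q ^ 4 + 2 * Q ^ 2 - 3) = 4 by
      ring] at h
    have := Int.le_of_dvd (by norm_num) h
    nlinarith

end CfsgLib.CharsMore.G2MinDeg
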