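import Cfsg.Agent.Lib.CharsMore.G2MinDeg.HeckeCount
import Cfsg.Agent.Lib.CharsMore.G2MinDeg.Order3
import Cfsg.Agent.Lib.CharsMore.G2MinDeg.ThreeCount

/-!
# The lower bounds for the degrees
-/

set_option autoImplicit false

namespace CfsgLib.CharsMore.G2MinDeg

open Cfsg.Lie CfsgLib.Chev Module

variable {F : Type*} [Field F] [Fintype F]

lemma three_eq_zero_iff : (3 : F) = 0 ↔ Fintype.card F % 3 = 0 := by
  obtain ⟨p, hp⟩ := CharP.exists F
  obtain ⟨n, hpp, hn⟩ := FiniteField.card F p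
  refine ⟨fun h => ?_, fun h => ?_⟩
  · have hd : p ∣ 3 := (CharP.cast_eq_zero_iff F p 3).1 (by exact_mod_cast h)
    rw [hn, (Nat.prime_dvd_prime_iff_eq hpp Nat.prime_three).1 hd]
    exact Nat.mod_eq_zero_of_dvd (dvd_pow_self 3 n.pos.ne')
  · have hd : 3 ∣ p := Nat.prime_three.dvd_of_dvd_pow (n := n) (hn ▸ Nat.dvd_of_mod_eq_zero h)
    have hp3 := (Nat.prime_dvd_prime_iff_eq Nat.prime_three hpp).1 hd
    have := CharP.cast_eq_zero F p
    rw [← hp3] at this
    exact_mod_cast this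

lemma nine_le (h : Fintype.card F % 3 = 0) (h3 : 3 < Fintype.card F) : 9 ≤ Fintype.card F := by
  obtain ⟨p, hp⟩ := CharP.exists F
  obtain ⟨n, hpp, hn⟩ := FiniteField.card F p
  have hd : 3 ∣ p := Nat.prime_three.dvd_of_dvd_pow (n := n) (hn ▸ Nat.dvd_of_mod_eq_zero h)
  rw [hn, ← (Nat.prime_dvd_prime_iff_eq Nat.prime_three hpp).1 hd] at h3 ⊢
  rcases Nat.lt_or_ge (n : ℕ) 2 with h2 | h2
  · interval_cases hm : (n : ℕ) <;> simp_all
  · calc 9 = 3 ^ 2 := by norm_num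
      _ ≤ 3 ^ (n : ℕ) := Nat.pow_le_pow_right (by norm_num) h2

variable {V : Type*} [AddCommGroup V] [Module ℂ V] [FiniteDimensional ℂ V]

/-- the three bounds -/
theorem min_degree (τ : Representation ℂ (GG F) V) [τ.IsIrreducible] (hk : 2 ≤ finrank ℂ V) :
    (Fintype.card F % 3 = 1 → 4 < Fintype.card F → Fintype.card F ^ 3 + 1 ≤ finrank ℂ V) ∧
    (Fintype.card F % 3 = 2 → 2 < Fintype.card F → Fintype.card F ^ 3 - 1 ≤ finrank ℂ V) ∧
    (Fintype.card F % 3 = 0 → 3 < Fintype.card F →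
      Fintype.card F ^ 4 + Fintype.card F ^ 2 + 1 ≤ finrank ℂ V) := by
  refine ⟨fun h1 h4 => ?_, fun h2 h4 => ?_, fun h0 h4 =>
    three_bound (three_eq_zero_iff.2 h0) τ (nine_le h0 h4) hk⟩
  · have h3 : (3 : F) ≠ 0 := fun h => by have := three_eq_zero_iff.1 h; omega
    have hq : 5 ≤ Fintype.card F := by omega
    have hb := (notThree_bound τ h3 hq hk).1
    have hp := ne_pred_cube τ h3 hq h1 hk
    have hc := ne_cube τ h3 hq hk
    omega
  · have h3 : (3 : F) ≠ 0 := fun h => by have := three_eq_zero_iff.1 h; omega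
    exact (notThree_bound τ h3 (by omega) hk).1

end CfsgLib.CharsMore.G2MinDeg
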