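import Cfsg.Agent.Lib.CharsMore.G2MinDeg.Common

/-!
# Weights of `X₁₁ X₉ X₁₀` and the lower bound `q³ - 1`

The long root group `X₁₁` has each of its `q - 1` non-trivial characters with one Heisenberg module
of degree `q²`; the Weyl element of the long simple root moves them to `X₁₀`, and the one of the
short root produces `q - 1` more weights trivial on the whole subgroup.
-/

set_option autoImplicit false
set_option maxRecDepth 100000

namespace CfsgLib.CharsMore.G2MinDeg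

open Cfsg.Lie CfsgLib.Chev Module CfsgLib.CharsMore.D4MinDeg

variable {F : Type*} [Field F]

lemma inj_shear (φ : F × F → F) :
    Function.Injective fun m : F × F × F => (m.1 + φ m.2, m.2.1, m.2.2) := fun m n h => by
  simp only [Prod.mk.injEq] at h
  obtain ⟨h1, h2, h3⟩ := h
  have e : m.2 = n.2 := Prod.ext h2 h3
  rw [e] at h1
  exact Prod.ext (add_right_cancel h1) e

lemma c9_10_11 (a : F) (p : F × F) :
    Commute (X 11 a) (prodChar (X 9) (X 10) c9_10 p) := by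
  rw [prodChar_apply]
  exact ((c9_11 p.1 a).symm).mul_right (c10_11 p.2 a).symm

/-- the abelian subgroup -/
noncomputable def e3 : AddChar (F × F × F) (GG F) :=
  prodChar (X 11) (prodChar (X 9) (X 10) c9_10) c9_10_11

lemma e3_apply (a b c : F) : e3 (a, b, c) = X 11 a * (X 9 b * X 10 c) := rfl

lemma X8_e3 (s a b c : F) : X 8 s * e3 (a, b, c) = e3 (a + 3 * b * s, b, c) * X 8 s := by
  simp only [e3_apply, AddChar.map_add_eq_mul]
  calc X 8 s * (X 11 a * (X 9 b * X 10 c)) = (X 8 s * X 11 a) * (X 9 b * X 10 c) := by group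
    _ = X 11 a * (X 8 s * X 9 b) * X 10 c := by rw [(c8_11 s a).eq]; group
    _ = X 11 a * (X 9 b * X 11 (3 * b * s)) * (X 8 s * X 10 c) := by rw [s89]; group
    _ = _ := by rw [(c9_11 b _).eq, (c8_10 s c).eq]; group

lemma X6_e3 (y a b c : F) : X 6 y * e3 (a, b, c) = e3 (a + c * y, b, c) * X 6 y := by
  simp only [e3_apply, AddChar.map_add_eq_mul]
  calc X 6 y * (X 11 a * (X 9 b * X 10 c)) = (X 6 y * X 11 a) * (X 9 b * X 10 c) := by group
    _ = X 11 a * (X 6 y * X 9 b) * X 10 c := by rw [(c6_11 y a).eq]; group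
    _ = X 11 a * X 9 b * (X 6 y * X 10 c) := by rw [(c6_9 y b).eq]; group
    _ = X 11 a * X 9 b * (X 10 c * X 11 (c * y)) * X 6 y := by rw [s610]; group
    _ = X 11 a * (X 9 b * X 11 (c * y)) * X 10 c * X 6 y := by rw [(c10_11 c _).eq]; group
    _ = _ := by rw [(c9_11 b _).eq]; group

lemma H_e3 (A B : Fˣ) (a b c : F) :
    H A B * e3 (a, b, c) = e3 ((B : F) * a, (A : F) * b, (A : F) ^ 3 / B * c) * H A B := by
  simp only [e3_apply]
  rw [← mul_assoc, H11, mul_assoc (X 11 _), ← mul_assoc (H A B), H9, mul_assoc (X 9 _), H10]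
  group

lemma n1_e3 (a b c : F) : n1 * e3 (a, b, c) = e3 (c, b, -a) * n1 := by
  simp only [e3_apply]
  calc n1 * (X 11 a * (X 9 b * X 10 c)) = X 10 (-a) * X 9 b * X 11 c * n1 := by
        rw [← mul_assoc, n1_11, mul_assoc (X 10 _), ← mul_assoc n1, n1_9, mul_assoc (X 9 _), n1_10]
        group
    _ = X 9 b * (X 10 (-a) * X 11 c) * n1 := by rw [← (c9_10 b (-a)).eq]; group
    _ = (X 9 b * X 11 c) * X 10 (-a) * n1 := by rw [(c10_11 (-a) c).eq]; group
    _ = _ := by rw [(c9_11 b c).eq]; group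

variable [Fintype F] {V : Type*} [AddCommGroup V] [Module ℂ V] [FiniteDimensional ℂ V]
  (τ : Representation ℂ (GG F) V)

/-- the weights -/
noncomputable def wA (l β r : F) : ℕ := mult τ e3 (w3 F l β r)

lemma wA_conj {g : GG F} (f : F × F × F → F × F × F) (hf : Function.Injective f) {l β r l' β' r' : F}
    (hg : ∀ a b c, g * e3 (a, b, c) = e3 (f (a, b, c)) * g)
    (hχ : ∀ a b c, l' * (f (a, b, c)).1 + β' * (f (a, b, c)).2.1 + r' * (f (a, b, c)).2.2 =
      l * a + β * b + r * c) : wA τ l β r = wA τ l' β' r' :=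
  mult_conj τ e3 (f := Equiv.ofBijective f (Finite.injective_iff_bijective.1 hf))
    (fun m => hg m.1 m.2.1 m.2.2) fun m => by
      simp only [Equiv.ofBijective_apply, w3_apply, hχ m.1 m.2.1 m.2.2]

lemma wA_shift8 (s l β r : F) : wA τ l (β + 3 * s * l) r = wA τ l β r :=
  wA_conj τ (g := X 8 s) (fun m => (m.1 + 3 * m.2.1 * s, m.2.1, m.2.2))
    (inj_shear fun p => 3 * p.1 * s) (fun a b c => X8_e3 s a b c) fun a b c => by ring

lemma wA_shift6 (y l β r : F) : wA τ l β (r + y * l) = wA τ l β r :=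
  wA_conj τ (g := X 6 y) (fun m => (m.1 + m.2.2 * y, m.2.1, m.2.2))
    (inj_shear fun p => p.2 * y) (fun a b c => X6_e3 y a b c) fun a b c => by ring

lemma wA_torus (A B : Fˣ) (l β r : F) :
    wA τ ((B : F) * l) ((A : F) * β) ((A : F) ^ 3 / B * r) = wA τ l β r :=
  wA_conj τ (g := H A B) (fun m => ((B : F) * m.1, (A : F) * m.2.1, (A : F) ^ 3 / B * m.2.2))
    (fun m n h => by simpa [Prod.ext_iff] using h) (fun a b c => H_e3 A B a b c) fun a b c => by ring

lemma wA_n1 (l β r : F) : wA τ (-r) β l = wA τ l β r :=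
  wA_conj τ (g := n1) (fun m => (m.2.2, m.2.1, -m.1))
    (fun m n h => by simp_all [Prod.ext_iff]) (fun a b c => n1_e3 a b c) fun a b c => by ring

variable (h3 : (3 : F) ≠ 0)
include h3

lemma wA_full {l : F} (hl : l ≠ 0) (β r : F) : wA τ l β r = wA τ 1 0 0 := by
  have e1 := wA_shift8 τ (β / (3 * l)) l 0 r
  rw [zero_add, show 3 * (β / (3 * l)) * l = β by field_simp] at e1
  have e2 := wA_shift6 τ (r / l) l 0 0
  rw [zero_add, div_mul_cancel₀ _ hl] at e2
  have e3 := wA_torus τ 1 (Units.mk0 l hl) 1 0 0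
  simp only [Units.val_mk0, mul_one, mul_zero] at e3
  rw [e1, e2, e3]

lemma wA_low (β : F) {r : F} (hr : r ≠ 0) : wA τ 0 β r = wA τ 1 0 0 := by
  rw [← wA_n1 τ 0 β r]
  exact wA_full τ h3 (neg_ne_zero.2 hr) β 0

omit h3 in
lemma wA_mid {β : F} (hβ : β ≠ 0) : wA τ 0 β 0 = wA τ 0 1 0 := by
  have e := wA_torus τ (Units.mk0 β hβ) 1 0 1 0
  simpa using e

lemma finrank_eq : finrank ℂ V =
    ((Fintype.card F - 1) * Fintype.card F ^ 2 + (Fintype.card F - 1) * Fintype.card F) * wA τ 1 0 0 +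
      (Fintype.card F - 1) * wA τ 0 1 0 + wA τ 0 0 0 := by
  rw [← sum_mult τ e3, sum_w3, sum_two _ (Fintype.card F ^ 2 * wA τ 1 0 0) fun l hl => ?_]
  · have hβ : ∀ β, ∑ r, mult τ e3 (w3 F 0 β r) =
        wA τ 0 β 0 + (Fintype.card F - 1) * wA τ 1 0 0 := fun β => by
      show ∑ r, wA τ 0 β r = _
      rw [sum_two _ (wA τ 1 0 0) fun r hr => wA_low τ h3 β hr, smul_eq_mul]
    simp only [hβ, Finset.sum_add_distrib, Finset.sum_const, Finset.card_univ, smul_eq_mul]
    rw [sum_two _ (wA τ 0 1 0) fun β hβ => wA_mid τ hβ, smul_eq_mul]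
    ring
  · show ∑ β, ∑ r, wA τ l β r = _
    rw [Finset.sum_congr rfl fun β _ => Finset.sum_congr rfl fun r _ => wA_full τ h3 hl β r]
    simp [sq, mul_assoc]

variable [τ.IsIrreducible]

lemma wA_top_ne_zero (hq : 3 ≤ Fintype.card F) (hk : 2 ≤ finrank ℂ V) : wA τ 1 0 0 ≠ 0 := by
  intro h0
  refine X_one_ne (F := F) 11 (by decide +kernel) (eq_one_of_trivial τ hq hk ?_)
  rw [show X 11 (1 : F) = e3 (1, 0, 0) by simp [e3_apply], apply_eq_sum, ← sum_wp τ e3]
  refine Finset.sum_congr rfl fun χ _ => ?_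
  obtain ⟨⟨l, β, r⟩, rfl⟩ := w3_bijective.surjective χ
  by_cases hl : l = 0
  · simp [w3_apply, hl]
  · rw [wp_eq_zero τ e3 ((wA_full τ h3 hl β r).trans h0), smul_zero]

omit h3 [τ.IsIrreducible] in
/-- a line preserved by a family and an element scaling it -/
lemma eigen_invariant {e : AddChar F (GG F)} {v : V} (hv : v ≠ 0) {α : AddChar F ℂ}
    (hα : ∀ m, τ (e m) v = α m • v) {g : GG F} {c : ℂ} (hg : τ g v = c • v) {k : F} (hk : k ≠ 1)
    (hge : ∀ m, g * e m = e (k * m) * g) (m : F) : τ (e m) v = v := by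
  have hc : c ≠ 0 := by
    rintro rfl
    exact apply_ne_zero τ g hv (by rw [hg, zero_smul])
  have key : ∀ m, α (k * m) = α m := fun m => by
    have h := apply_mul_apply τ g (e m) v
    rw [hge, apply_mul_apply, hg, map_smul, hα, hα, map_smul, hg, smul_smul, smul_smul,
      mul_comm c] at h
    exact mul_right_cancel₀ hc (smul_left_injective ℂ hv h)
  have h := key (m / (k - 1))
  rw [show k * (m / (k - 1)) = m / (k - 1) + m by field_simp [sub_ne_zero.2 hk]; ring,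
    AddChar.map_add_eq_mul] at h
  rw [hα, (mul_eq_left₀ (AddChar.val_isUnit α _).ne_zero).1 h, one_smul]

omit [τ.IsIrreducible] in
lemma exists_base (hq : 5 ≤ Fintype.card F) (hm : wA τ 1 0 0 = 1) :
    ∃ v, v ≠ 0 ∧ IsWt τ e3 (w3 F 0 0 1) v ∧ (∀ y, τ (X 6 y) v = v) ∧ ∀ s, τ (X 8 s) v = v := by
  have h1 : mult τ e3 (w3 F 0 0 1) = 1 := (wA_low τ h3 0 one_ne_zero).trans hm
  obtain ⟨v, hv, hwt⟩ := exists_wt τ e3 (χ := w3 F 0 0 1) (by rw [h1]; exact one_ne_zero)
  obtain ⟨z, hz⟩ := exists_pow_ne_one (F := F) (n := 3) (by norm_num) (by omega)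
  have hline : ∀ w, IsWt τ e3 (w3 F 0 0 1) w → ∃ c : ℂ, c • v = w :=
    fun w hw => exists_smul τ e3 h1 hv hwt hw
  have hpres : ∀ (g : GG F) (f : F × F × F → F × F × F), Function.Injective f →
      (∀ a b c, g * e3 (a, b, c) = e3 (f (a, b, c)) * g) → (∀ a b c, (f (a, b, c)).2.2 = c) →
      IsWt τ e3 (w3 F 0 0 1) (τ g v) := fun g f hf hg hc =>
    IsWt.conj τ e3 (f := Equiv.ofBijective f (Finite.injective_iff_bijective.1 hf)) hwt
      (fun m => hg m.1 m.2.1 m.2.2) fun m => by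
        simp [Equiv.ofBijective_apply, w3_apply, hc m.1 m.2.1 m.2.2]
  obtain ⟨κ, hκ⟩ := exists_eigChar τ (X 6) hv fun y => hline _
    (hpres (X 6 y) (fun m => (m.1 + m.2.2 * y, m.2.1, m.2.2)) (inj_shear fun p => p.2 * y)
      (X6_e3 y) fun _ _ _ => rfl)
  obtain ⟨ν, hν⟩ := exists_eigChar τ (X 8) hv fun s => hline _
    (hpres (X 8 s) (fun m => (m.1 + 3 * m.2.1 * s, m.2.1, m.2.2))
      (inj_shear fun p => 3 * p.1 * s) (X8_e3 s) fun _ _ _ => rfl)
  obtain ⟨c, hc⟩ := hline _ (hpres (H z (z ^ 3)) (fun m => ((z : F) ^ 3 * m.1, (z : F) * m.2.1, m.2.2))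
    (fun m n h => by simpa [Prod.ext_iff] using h)
    (fun a b c => by rw [H_e3]; simp) fun _ _ _ => rfl)
  refine ⟨v, hv, hwt, fun y => eigen_invariant τ hv hκ hc.symm
    (k := (z : F) ^ 3) ?_ (fun m => ?_) y, fun s => eigen_invariant τ hv hν hc.symm
    (k := (z : F) ^ 2) ?_ (fun m => ?_) s⟩
  · exact fun e => hz 3 (by norm_num) le_rfl (Units.ext (by simpa using e))
  · rw [H6]; congr 3; push_cast; field_simp
  · exact fun e => hz 2 (by norm_num) (by norm_num) (Units.ext (by simpa using e))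
  · rw [H8]; congr 3; push_cast; field_simp

omit [τ.IsIrreducible] in
/-- the weights that are trivial on the subgroup but not on `X₆` -/
lemma exists_low (hq : 5 ≤ Fintype.card F) (hm : wA τ 1 0 0 = 1) {μ : F} (hμ : μ ≠ 0) :
    ∃ u, u ≠ 0 ∧ IsWt τ e3 (w3 F 0 0 0) u ∧ (∀ s, τ (X 8 s) u = u) ∧
      (∀ y, τ (X 6 y) u = psi F (μ * y) • u) ∧ ∃ v k, v ≠ 0 ∧ IsWt τ e3 (w3 F 0 0 1) v ∧
        u = τ (H k (k ^ 2)) (τ n0 v) := by
  obtain ⟨v, hv, hwt, h6, h8⟩ := exists_base τ h3 hq hm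
  have h11 : ∀ t, τ (X 11 t) v = v := fun t => by
    simpa [e3_apply, w3_apply] using hwt (t, 0, 0)
  have h9 : ∀ t, τ (X 9 t) v = v := fun t => by
    simpa [e3_apply, w3_apply] using hwt (0, t, 0)
  have h10 : ∀ t, τ (X 10 t) v = psi F t • v := fun t => by
    simpa [e3_apply, w3_apply] using hwt (0, 0, t)
  have hk : -μ⁻¹ ≠ 0 := neg_ne_zero.2 (inv_ne_zero hμ)
  set k := Units.mk0 _ hk
  set u := τ (H k (k ^ 2)) (τ n0 v)
  have f11 : ∀ t, τ (X 11 t) (τ n0 v) = τ n0 v := fun t => by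
    rw [← apply_mul_apply, ← n0_11, apply_mul_apply, h11]
  have f9 : ∀ t, τ (X 9 t) (τ n0 v) = τ n0 v := fun t => by
    rw [← apply_mul_apply, ← n0_8, apply_mul_apply, h8]
  have f10 : ∀ t, τ (X 10 t) (τ n0 v) = τ n0 v := fun t => by
    rw [← apply_mul_apply, ← n0_6, apply_mul_apply, h6]
  have hwt' : IsWt τ e3 (w3 F 0 0 0) (τ n0 v) := fun m => by
    rw [show e3 m = X 11 m.1 * (X 9 m.2.1 * X 10 m.2.2) from rfl, apply_mul_apply, apply_mul_apply,
      f10, f9, f11]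
    simp [w3_apply]
  refine ⟨u, apply_ne_zero τ _ (apply_ne_zero τ _ hv), ?_, fun s => ?_, fun y => ?_, v, k, hv, hwt, rfl⟩
  · exact IsWt.conj τ e3 (f := Equiv.ofBijective _ (Finite.injective_iff_bijective.1
      (show Function.Injective fun m : F × F × F => (((k ^ 2 : Fˣ) : F) * m.1, (k : F) * m.2.1,
        (k : F) ^ 3 / ((k ^ 2 : Fˣ) : F) * m.2.2) from fun m n h => by simpa [Prod.ext_iff] using h)))
      hwt' (fun m => H_e3 _ _ m.1 m.2.1 m.2.2) fun m => by simp [w3_apply]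
  · obtain ⟨s, rfl⟩ : ∃ s', ((k ^ 2 : Fˣ) : F) / k * s' = s :=
      ⟨s / (((k ^ 2 : Fˣ) : F) / k), by field_simp⟩
    rw [← apply_mul_apply, ← H8, apply_mul_apply]
    congr 1
    obtain ⟨s, rfl⟩ := neg_surjective s
    rw [← apply_mul_apply, ← n0_9, apply_mul_apply, h9]
  · obtain ⟨y, rfl⟩ : ∃ y', (k : F) * y' = y := ⟨y / k, by field_simp⟩
    have e6 : H k (k ^ 2) * X 6 y = X 6 ((k : F) * y) * H k (k ^ 2) := by
      rw [H6]; congr 3; push_cast; field_simp
    rw [← apply_mul_apply, ← e6, apply_mul_apply, ← apply_mul_apply τ (X 6 y),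
      show X 6 y * n0 = n0 * X 10 (-y) by rw [n0_10, neg_neg], apply_mul_apply, h10, map_smul,
      map_smul]
    congr 2
    rw [Units.val_mk0]
    field_simp

omit h3 [τ.IsIrreducible] in
/-- the projection of the trivial weight and `X₆` -/
lemma commute_low (m : F) : Commute (wp τ e3 (w3 F 0 0 0)) (τ (X 6 m)) :=
  (wp_conj τ e3 (f := Equiv.ofBijective _ (Finite.injective_iff_bijective.1
    (inj_shear fun p => p.2 * m))) (fun p => X6_e3 m p.1 p.2.1 p.2.2)
    fun p => by simp [w3_apply]).symm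

omit [τ.IsIrreducible] in
lemma low_bound (hq : 5 ≤ Fintype.card F) (hm : wA τ 1 0 0 = 1) :
    Fintype.card F - 1 ≤ wA τ 0 0 0 := by
  classical
  set P := wp τ e3 (w3 F 0 0 0)
  have hP : IsIdempotentElem P := wp_mul_self τ e3 _
  have hs := sum_mi τ (X 6) hP (commute_low τ)
  rw [trace_wp] at hs
  have hs' : ∑ χ, mi τ (X 6) P χ = wA τ 0 0 0 := Nat.cast_injective hs
  rw [← hs', ← (Equiv.ofBijective _ (w1_bijective (F := F))).sum_comp,
    ← Finset.add_sum_erase _ _ (Finset.mem_univ (0 : F))]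
  refine le_add_left ?_
  calc Fintype.card F - 1 = ∑ μ ∈ Finset.univ.erase (0 : F), 1 := by simp
    _ ≤ _ := Finset.sum_le_sum fun μ hμ => by
      obtain ⟨u, hu, hwt, -, h6, -⟩ := exists_low τ h3 hq hm (Finset.ne_of_mem_erase hμ)
      exact mi_pos τ (X 6) hP (commute_low τ) hu (wp_apply τ e3 hwt) h6

/-- the bound, and the weights at equality -/
theorem notThree_bound (hq : 5 ≤ Fintype.card F) (hk : 2 ≤ finrank ℂ V) :
    Fintype.card F ^ 3 - 1 ≤ finrank ℂ V ∧ (finrank ℂ V ≤ Fintype.card F ^ 3 →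
      wA τ 1 0 0 = 1 ∧ wA τ 0 1 0 = 0 ∧
        finrank ℂ V + Fintype.card F = Fintype.card F ^ 3 + wA τ 0 0 0) := by
  have hs := finrank_eq τ h3
  have hne := wA_top_ne_zero τ h3 (by omega) hk
  obtain ⟨p, hp⟩ : ∃ p, Fintype.card F = p + 1 := ⟨Fintype.card F - 1, by omega⟩
  simp only [hp, Nat.add_sub_cancel] at hs ⊢
  rcases eq_or_ne (wA τ 1 0 0) 1 with hm | hm
  · have hlow := low_bound τ h3 hq hm
    rw [hp, Nat.add_sub_cancel] at hlow
    rw [hm] at hs
    have e : (p + 1) ^ 3 = p * (p + 1) ^ 2 + p * (p + 1) + (p + 1) := by ring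
    refine ⟨by omega, fun hle => ⟨hm, ?_, ?_⟩⟩
    · by_contra h
      have : p * 1 ≤ p * wA τ 0 1 0 := Nat.mul_le_mul_left _ (by omega)
      omega
    · have h0 : wA τ 0 1 0 = 0 := by
        by_contra h
        have : p * 1 ≤ p * wA τ 0 1 0 := Nat.mul_le_mul_left _ (by omega)
        omega
      rw [h0] at hs
      omega
  · have h2 : (p * (p + 1) ^ 2 + p * (p + 1)) * 2 ≤
        (p * (p + 1) ^ 2 + p * (p + 1)) * wA τ 1 0 0 := Nat.mul_le_mul_left _ (by omega)
    have e : (p + 1) ^ 3 = p * (p + 1) ^ 2 + p * (p + 1) + (p + 1) := by ring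
    have h4 : p + 1 < p * (p + 1) := by nlinarith
    refine ⟨by omega, fun hle => ?_⟩
    exfalso; omega

end CfsgLib.CharsMore.G2MinDeg
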