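import Cfsg.Agent.Lib.CharsMore.D4MinDeg.Weights2

/-!
# Weights inside the image of an invariant projection
-/

set_option autoImplicit false

namespace CfsgLib.CharsMore.G2MinDeg

open Module Finset CfsgLib.CharsMore.D4MinDeg

variable {M G V : Type*} [AddCommGroup M] [Fintype M] [Group G] [AddCommGroup V] [Module ℂ V]
  (ρ : Representation ℂ G V) (e : AddChar M G)

lemma wp_mul_of_ne {χ χ' : AddChar M ℂ} (h : χ ≠ χ') : wp ρ e χ * wp ρ e χ' = 0 := by
  classical
  conv_lhs => arg 1; rw [wp]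
  rw [smul_mul_assoc, sum_mul]
  simp only [smul_mul_assoc, apply_mul_wp, smul_smul]
  rw [← sum_smul]
  have : ∀ m, χ (-m) * χ' m = (χ⁻¹ * χ') m := fun m => by
    rw [AddChar.mul_apply, AddChar.inv_apply]
  rw [sum_congr rfl fun m _ => this m, AddChar.sum_eq_ite, if_neg, zero_smul, smul_zero]
  rw [← AddChar.one_eq_zero, inv_mul_eq_one]
  exact h

lemma wp_apply_eq_zero {χ χ' : AddChar M ℂ} {v : V} (hv : IsWt ρ e χ' v) (h : χ ≠ χ') :
    wp ρ e χ v = 0 := by
  rw [← wp_apply ρ e hv, ← Module.End.mul_apply, wp_mul_of_ne ρ e h, LinearMap.zero_apply]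

omit [Fintype M] in
lemma IsWt.commute {χ : AddChar M ℂ} {v : V} (hv : IsWt ρ e χ v) {g : G}
    (h : ∀ m, Commute g (e m)) : IsWt ρ e χ (ρ g v) := fun m => by
  rw [← apply_mul_apply, ← (h m).eq, apply_mul_apply, hv, map_smul]

lemma wp_commute {P : Module.End ℂ V} (h : ∀ m, Commute P (ρ (e m))) (χ : AddChar M ℂ) :
    Commute P (wp ρ e χ) :=
  (Commute.sum_right _ _ _ fun m _ => (h m).smul_right _).smul_right _

lemma commute_wp_of {g : G} (h : ∀ m, Commute g (e m)) (χ : AddChar M ℂ) :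
    Commute (ρ g) (wp ρ e χ) := wp_commute ρ e (fun m => (h m).map ρ) χ

/-- the restriction of the family along a homomorphism -/
lemma wp_comp {M' : Type*} [AddCommGroup M'] [Fintype M'] (ι : M' →+ M) (χ' : AddChar M' ℂ)
    [DecidableEq (AddChar M' ℂ)] :
    wp ρ (e.compAddMonoidHom ι) χ' =
      ∑ χ : AddChar M ℂ, if χ.compAddMonoidHom ι = χ' then wp ρ e χ else 0 := by
  rw [← mul_one (wp ρ (e.compAddMonoidHom ι) χ'), ← sum_wp ρ e, mul_sum]
  refine sum_congr rfl fun χ _ => ?_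
  rw [wp, smul_mul_assoc, sum_mul]
  simp only [smul_mul_assoc, AddChar.compAddMonoidHom_apply, apply_mul_wp, smul_smul]
  rw [← sum_smul]
  have : ∀ m, χ' (-m) * χ (ι m) = (χ'⁻¹ * χ.compAddMonoidHom ι) m := fun m => by
    rw [AddChar.mul_apply, AddChar.inv_apply]; rfl
  rw [sum_congr rfl fun m _ => this m, AddChar.sum_eq_ite, smul_smul]
  by_cases hc : χ.compAddMonoidHom ι = χ'
  · rw [if_pos hc, if_pos (by rw [hc, inv_mul_cancel]; rfl),
      inv_mul_cancel₀ (Nat.cast_ne_zero.2 Fintype.card_ne_zero), one_smul]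
  · rw [if_neg hc, if_neg, mul_zero, zero_smul]
    rw [← AddChar.one_eq_zero, inv_mul_eq_one]
    exact fun h => hc h.symm

variable [FiniteDimensional ℂ V]

lemma mult_comp {M' : Type*} [AddCommGroup M'] [Fintype M'] (ι : M' →+ M) (χ' : AddChar M' ℂ)
    [DecidableEq (AddChar M' ℂ)] :
    mult ρ (e.compAddMonoidHom ι) χ' =
      ∑ χ : AddChar M ℂ, if χ.compAddMonoidHom ι = χ' then mult ρ e χ else 0 := by
  have h := congrArg (LinearMap.trace ℂ V) (wp_comp ρ e ι χ')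
  rw [map_sum, trace_wp] at h
  simp only [apply_ite (LinearMap.trace ℂ V), trace_wp, map_zero] at h
  exact_mod_cast h

/-- the dimension of a weight inside a projection -/
noncomputable def mi (P : Module.End ℂ V) (χ : AddChar M ℂ) : ℕ :=
  finrank ℂ (LinearMap.range (P * wp ρ e χ))

variable {P : Module.End ℂ V} (hP : IsIdempotentElem P) (hc : ∀ m, Commute P (ρ (e m)))
include hP hc

omit [FiniteDimensional ℂ V] in
lemma idem_mul_wp (χ : AddChar M ℂ) : IsIdempotentElem (P * wp ρ e χ) :=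
  IsIdempotentElem.mul_of_commute (wp_commute ρ e hc χ) hP (wp_mul_self ρ e χ)

lemma trace_mul_wp (χ : AddChar M ℂ) :
    LinearMap.trace ℂ V (P * wp ρ e χ) = mi ρ e P χ :=
  LinearMap.IsProj.trace
    (LinearMap.IsIdempotentElem.isProj_range _ (idem_mul_wp ρ e hP hc χ))

lemma sum_mi : ((∑ χ, mi ρ e P χ : ℕ) : ℂ) = LinearMap.trace ℂ V P := by
  conv_rhs => rw [← mul_one P, ← sum_wp ρ e, mul_sum, map_sum]
  simp only [trace_mul_wp ρ e hP hc, Nat.cast_sum]

lemma mi_conj {g : G} {f : M ≃ M} {χ χ' : AddChar M ℂ} {P' : Module.End ℂ V}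
    (hP' : IsIdempotentElem P') (hc' : ∀ m, Commute P' (ρ (e m))) (hgP : ρ g * P = P' * ρ g)
    (hg : ∀ m, g * e m = e (f m) * g) (hχ : ∀ m, χ' (f m) = χ m) :
    mi ρ e P χ = mi ρ e P' χ' := by
  have h : ρ g * (P * wp ρ e χ) = (P' * wp ρ e χ') * ρ g := by
    rw [← mul_assoc, hgP, mul_assoc, wp_conj ρ e hg hχ, mul_assoc]
  have e1 : LinearMap.trace ℂ V (P * wp ρ e χ) = LinearMap.trace ℂ V (P' * wp ρ e χ') := by
    calc LinearMap.trace ℂ V (P * wp ρ e χ)
        = LinearMap.trace ℂ V (ρ g⁻¹ * (ρ g * (P * wp ρ e χ))) := by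
          rw [← mul_assoc (ρ g⁻¹), ← map_mul, inv_mul_cancel, map_one, one_mul]
      _ = LinearMap.trace ℂ V (ρ g⁻¹ * ((P' * wp ρ e χ') * ρ g)) := by rw [h]
      _ = _ := by
          rw [LinearMap.trace_mul_comm, mul_assoc, ← map_mul, mul_inv_cancel, map_one, mul_one]
  rw [trace_mul_wp ρ e hP hc, trace_mul_wp ρ e hP' hc'] at e1
  exact_mod_cast e1

lemma mi_pos {χ : AddChar M ℂ} {v : V} (hv : v ≠ 0) (hPv : P v = v) (hw : IsWt ρ e χ v) :
    1 ≤ mi ρ e P χ := by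
  rw [Nat.one_le_iff_ne_zero]
  intro h
  have h0 : P * wp ρ e χ = 0 := LinearMap.range_eq_bot.1 (Submodule.finrank_eq_zero.1 h)
  exact hv (by
    rw [← hPv, ← wp_apply ρ e hw, ← Module.End.mul_apply, h0, LinearMap.zero_apply])

omit [FiniteDimensional ℂ V] hP hc in
lemma exists_mi {χ : AddChar M ℂ} (h : mi ρ e P χ ≠ 0) (hP : IsIdempotentElem P)
    (hc : ∀ m, Commute P (ρ (e m))) : ∃ v, v ≠ 0 ∧ P v = v ∧ IsWt ρ e χ v := by
  by_contra hn
  refine h ?_
  have h0 : P * wp ρ e χ = 0 := LinearMap.ext fun v => by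
    by_contra hv
    refine hn ⟨_, hv, ?_, fun m => ?_⟩
    · rw [← Module.End.mul_apply, ← mul_assoc, hP.eq]
    · rw [(wp_commute ρ e hc χ).eq, ← Module.End.mul_apply, ← mul_assoc, apply_mul_wp]
      rfl
  rw [mi, h0, LinearMap.range_zero, finrank_bot]

end CfsgLib.CharsMore.G2MinDeg
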