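import Cfsg.Agent.Lib.CharsMore.G2MinDeg.ThreeWeights
import Cfsg.Agent.Lib.CharsMore.G2MinDeg.Fixed

/-!
# Characteristic three: the small multiplicities

When the generic multiplicity is one, the Weyl element of the short root and the root group of the
short root pin down the weights trivial on `X₁₁`.
-/

set_option autoImplicit false
set_option maxRecDepth 100000

namespace CfsgLib.CharsMore.G2MinDeg

open Cfsg.Lie CfsgLib.Chev Module CfsgLib.CharsMore.D4MinDeg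

variable {F : Type*} [Field F] [Fintype F] (h3 : (3 : F) = 0) {V : Type*} [AddCommGroup V]
  [Module ℂ V] (τ : Representation ℂ (GG F) V)

lemma trace_eq_of_conj {g : GG F} {A B : Module.End ℂ V} (h : τ g * A = B * τ g) :
    LinearMap.trace ℂ V A = LinearMap.trace ℂ V B := by
  calc LinearMap.trace ℂ V A = LinearMap.trace ℂ V (τ g⁻¹ * (τ g * A)) := by
        rw [← mul_assoc, ← map_mul, inv_mul_cancel, map_one, one_mul]
    _ = LinearMap.trace ℂ V (τ g⁻¹ * (B * τ g)) := by rw [h]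
    _ = _ := by rw [LinearMap.trace_mul_comm, mul_assoc, ← map_mul, mul_inv_cancel, map_one, mul_one]

section Vectors

variable {l β ν r : F} {v : V} (hv : IsWt τ (e4 h3) (w4 F l β ν r) v)
include hv

lemma wt4_eleven (t : F) : τ (X 11 t) v = psi F (l * t) • v := by
  simpa [e4_apply, w4_apply] using hv (t, 0, 0, 0)

lemma wt4_nine (t : F) : τ (X 9 t) v = psi F (β * t) • v := by
  simpa [e4_apply, w4_apply] using hv (0, t, 0, 0)

lemma wt4_eight (t : F) : τ (X 8 t) v = psi F (ν * t) • v := by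
  simpa [e4_apply, w4_apply] using hv (0, 0, t, 0)

lemma wt4_ten (t : F) : τ (X 10 t) v = psi F (r * t) • v := by
  simpa [e4_apply, w4_apply] using hv (0, 0, 0, t)

lemma wt4_seven (t : F) : IsWt τ (e4 h3) (w4 F l β (ν - β * t) r) (τ (X 7 t) v) :=
  IsWt.conj τ (e4 h3) (f := Equiv.ofBijective _ (Finite.injective_iff_bijective.1 (inj7 t))) hv
    (fun m => X7_e4 h3 t m.1 m.2.1 m.2.2.1 m.2.2.2) fun m => by
      simp only [Equiv.ofBijective_apply, w4_apply]; congr 1; ring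

lemma wt4_n0 {K : F} (h6 : ∀ y, τ (X 6 y) v = psi F (K * y) • v) :
    IsWt τ (e4 h3) (w4 F l ν (-β) K) (τ n0 v) := fun m => by
  obtain ⟨a, b, c, d⟩ := m
  have e10 : τ (X 10 d) (τ n0 v) = psi F (K * d) • τ n0 v := by
    rw [← apply_mul_apply, ← n0_6, apply_mul_apply, h6, map_smul]
  have e8 : τ (X 8 c) (τ n0 v) = psi F (β * -c) • τ n0 v := by
    rw [← apply_mul_apply, show X 8 c * n0 = n0 * X 9 (-c) by rw [n0_9, neg_neg], apply_mul_apply,
      wt4_nine h3 τ hv, map_smul]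
  have e9 : τ (X 9 b) (τ n0 v) = psi F (ν * b) • τ n0 v := by
    rw [← apply_mul_apply, ← n0_8, apply_mul_apply, wt4_eight h3 τ hv, map_smul]
  have e11 : τ (X 11 a) (τ n0 v) = psi F (l * a) • τ n0 v := by
    rw [← apply_mul_apply, ← n0_11, apply_mul_apply, wt4_eleven h3 τ hv, map_smul]
  simp only [e4_apply, apply_mul_apply, e10, e8, e9, e11, map_smul, smul_smul]
  congr 1
  rw [← AddChar.map_add_eq_mul, ← AddChar.map_add_eq_mul, ← AddChar.map_add_eq_mul, w4_apply]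
  congr 1
  ring

end Vectors

lemma six_seven {β ν r κ : F} {v : V} (hv : IsWt τ (e4 h3) (w4 F 0 β ν r) v)
    (h6 : ∀ y, τ (X 6 y) v = psi F (κ * y) • v) (t y : F) :
    τ (X 6 y) (τ (X 7 t) v) = psi F ((κ + ν * t + β * t ^ 2 - r * t ^ 3) * y) • τ (X 7 t) v := by
  rw [← apply_mul_apply, s67]
  simp only [apply_mul_apply, wt4_eleven h3 τ hv, wt4_ten h3 τ hv, wt4_nine h3 τ hv,
    wt4_eight h3 τ hv, h6, map_smul, smul_smul, ← AddChar.map_add_eq_mul]
  congr 2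
  ring

omit [Fintype F] in
lemma injH' (A B : Fˣ) : Function.Injective fun m : F × F × F × F =>
    ((B : F) * m.1, (A : F) * m.2.1, (B : F) / A * m.2.2.1, (A : F) ^ 3 / B * m.2.2.2) := injH A B

lemma wt4_H (A B : Fˣ) {l β ν r : F} {v : V}
    (hv : IsWt τ (e4 h3)
      (w4 F ((B : F) * l) ((A : F) * β) ((B : F) / A * ν) ((A : F) ^ 3 / B * r)) v) :
    IsWt τ (e4 h3) (w4 F l β ν r) (τ (H A B) v) :=
  IsWt.conj τ (e4 h3) (f := Equiv.ofBijective _ (Finite.injective_iff_bijective.1 (injH' A B))) hv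
    (fun m => H_e4 h3 A B m.1 m.2.1 m.2.2.1 m.2.2.2) fun m => by
      simp only [Equiv.ofBijective_apply, w4_apply]; congr 1; ring

lemma wt4_eq {χ χ' : AddChar (F × F × F × F) ℂ} {v : V} (hv0 : v ≠ 0)
    (hv : IsWt τ (e4 h3) χ v) (hv' : IsWt τ (e4 h3) χ' v) : χ = χ' := by
  by_contra h
  exact hv0 (by rw [← wp_apply τ (e4 h3) hv, wp_apply_eq_zero τ (e4 h3) hv' h])

lemma commute_X6 (β ν r y : F) :
    Commute (wp τ (e4 h3) (w4 F 0 β ν r)) (τ (X 6 y)) :=
  (wp_conj τ (e4 h3) (f := Equiv.ofBijective _ (Finite.injective_iff_bijective.1 (inj6 y)))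
    (fun m => X6_e4 h3 y m.1 m.2.1 m.2.2.1 m.2.2.2) fun m => by simp [w4_apply]).symm

variable [FiniteDimensional ℂ V]

lemma exists_kappa {β ν r : F} (h : wB h3 τ 0 β ν r = 1) : ∃ (v : V) (κ : F), v ≠ 0 ∧
    IsWt τ (e4 h3) (w4 F 0 β ν r) v ∧ ∀ y, τ (X 6 y) v = psi F (κ * y) • v := by
  obtain ⟨v, hv, hwt⟩ := exists_wt τ (e4 h3) (χ := w4 F 0 β ν r)
    (by rw [show mult τ (e4 h3) (w4 F 0 β ν r) = 1 from h]; exact one_ne_zero)
  obtain ⟨α, hα⟩ := exists_eigChar τ (X 6) hv fun y => by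
    refine exists_smul τ (e4 h3) h hv hwt fun m => ?_
    have e : wp τ (e4 h3) (w4 F 0 β ν r) (τ (X 6 y) v) = τ (X 6 y) v := by
      rw [← Module.End.mul_apply, (commute_X6 h3 τ β ν r y).eq, Module.End.mul_apply,
        wp_apply τ (e4 h3) hwt]
    rw [← e]
    exact isWt_wp τ (e4 h3) _ _ m
  obtain ⟨κ, rfl⟩ := w1_bijective.surjective α
  exact ⟨v, κ, hv, hwt, fun y => hα y⟩

local notation "q" => Fintype.card F
local notation "C" => wB h3 τ 1 1 0 0
local notation "a₀" => wB h3 τ 1 0 0 0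
local notation "a₁" => wB h3 τ 0 1 0 0

variable (hq : 9 ≤ Fintype.card F) (hC : wB h3 τ 1 1 0 0 = 1)
include hq hC

omit hC in
lemma six_fixed_zero (ha : a₁ ≤ 3) {v : V} (hv : IsWt τ (e4 h3) (w4 F 0 1 0 0) v) (y : F) :
    τ (X 6 y) v = v := by
  classical
  set P := wp τ (e4 h3) (w4 F 0 1 0 0)
  have hP : IsIdempotentElem P := wp_mul_self τ (e4 h3) _
  have hc : ∀ m, Commute P (τ (X 6 m)) := commute_X6 h3 τ 1 0 0
  have hs := sum_mi τ (X 6) hP hc
  rw [trace_wp] at hs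
  have hs' : ∑ χ, mi τ (X 6) P χ = a₁ := Nat.cast_injective hs
  obtain ⟨z, hz⟩ := exists_pow_ne_one (F := F) (n := 6) (by norm_num) (by omega)
  have hscale : ∀ (κ : F) (B : Fˣ),
      mi τ (X 6) P (w1 F κ) = mi τ (X 6) P (w1 F (κ / ((B : F) ^ 2))) := fun κ B => by
    refine mi_conj τ (X 6) hP hc (g := H 1 B) (f := Equiv.mulLeft₀ ((B : F) ^ 2) (by simp)) hP hc
      ?_ (fun m => by rw [H6]; simp) fun m => w1_scale κ m (by simp)
    exact wp_conj τ (e4 h3) (f := Equiv.ofBijective _ (Finite.injective_iff_bijective.1 (injH' 1 B)))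
      (fun m => H_e4 h3 1 B m.1 m.2.1 m.2.2.1 m.2.2.2) fun m => by simp [w4_apply]
  have hzero : ∀ κ, κ ≠ 0 → mi τ (X 6) P (w1 F κ) = 0 := fun κ hκ => by
    by_contra h0
    have hinj : Function.Injective fun i : Fin 4 => w1 F (κ / ((z ^ (i : ℕ) : Fˣ) : F) ^ 2) := by
      intro i j e
      have e' := w1_bijective.injective e
      simp only [div_eq_mul_inv, mul_right_inj' hκ, inv_inj, ← Units.val_pow_eq_pow_val, ← pow_mul]
        at e'
      · have e'' := Units.ext e'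
        by_contra hij
        rcases Nat.lt_or_gt_of_ne (fun h => hij (Fin.ext h)) with h | h
        · exact hz (j * 2 - i * 2) (by omega) (by omega)
            (by rw [pow_sub _ (by omega), ← e'', mul_inv_cancel])
        · exact hz (i * 2 - j * 2) (by omega) (by omega)
            (by rw [pow_sub _ (by omega), e'', mul_inv_cancel])
    have h4 : ∑ i : Fin 4, mi τ (X 6) P (w1 F (κ / ((z ^ (i : ℕ) : Fˣ) : F) ^ 2)) ≤ a₁ := by
      rw [← hs', ← Finset.sum_image fun i _ j _ h => hinj h]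
      exact Finset.sum_le_sum_of_subset (Finset.subset_univ _)
    simp only [← hscale, Finset.sum_const, Finset.card_univ, Fintype.card_fin, smul_eq_mul] at h4
    omega
  have e : v = wp τ (X 6) (w1 F 0) v := by
    conv_lhs => rw [← Module.End.one_apply (R := ℂ) v, ← sum_wp τ (X 6), LinearMap.sum_apply]
    refine Finset.sum_eq_single _ (fun χ _ hχ => ?_) (by simp)
    obtain ⟨κ, rfl⟩ := w1_bijective.surjective χ
    have h0 := hzero κ (fun h => hχ (by rw [h]))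
    rw [mi, Submodule.finrank_eq_zero, LinearMap.range_eq_bot] at h0
    have := LinearMap.congr_fun h0 v
    rwa [(wp_commute τ (X 6) hc _).eq, Module.End.mul_apply, wp_apply τ (e4 h3) hv] at this
  rw [e, isWt_wp, w1_apply, zero_mul, AddChar.map_zero_eq_one, one_smul]

/-- the key coincidence -/
lemma collide {r r' κ κ' : F} {v v' : V} (hv : v ≠ 0) (hv' : v' ≠ 0)
    (hw : IsWt τ (e4 h3) (w4 F 0 1 0 r) v) (h6 : ∀ y, τ (X 6 y) v = psi F (κ * y) • v)
    (hw' : IsWt τ (e4 h3) (w4 F 0 1 0 r') v') (h6' : ∀ y, τ (X 6 y) v' = psi F (κ' * y) • v')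
    (he : κ + 1 - r = κ' + 1 - r') (hne : κ + 1 - r ≠ 0) : (∃ c : ℂ, c • v = v') ∧ r = r' := by
  have key : ∀ {r κ : F} {v : V}, IsWt τ (e4 h3) (w4 F 0 1 0 r) v →
      (∀ y, τ (X 6 y) v = psi F (κ * y) • v) →
      IsWt τ (e4 h3) (w4 F 0 (-1) (-1) (κ + 1 - r)) (τ n0 (τ (X 7 1) v)) := fun {r κ v} hw h6 => by
    have h := wt4_n0 h3 τ (wt4_seven h3 τ hw 1) (K := κ + 1 - r) fun y => by
      rw [six_seven h3 τ hw h6 1 y]; congr 2; ring
    simpa using h
  have h1 : mult τ (e4 h3) (w4 F 0 (-1) (-1) (κ + 1 - r)) = 1 :=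
    (wB_mid h3 τ (neg_ne_zero.2 one_ne_zero) hne (-1)).trans hC
  obtain ⟨c, hc⟩ := exists_smul τ (e4 h3) h1 (apply_ne_zero τ _ (apply_ne_zero τ _ hv)) (key hw h6)
    (show IsWt τ (e4 h3) _ (τ n0 (τ (X 7 1) v')) by rw [he]; exact key hw' h6')
  rw [← map_smul, ← map_smul] at hc
  have hcv : c • v = v' := by
    have := congrArg (fun x => τ (X 7 1)⁻¹ (τ n0⁻¹ x)) hc
    simpa only [apply_inv_apply] using this
  refine ⟨⟨c, hcv⟩, ?_⟩
  have hw'' : IsWt τ (e4 h3) (w4 F 0 1 0 r) v' := fun m => by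
    rw [← hcv, map_smul, hw m, smul_comm]
  exact (w4_inj.1 (wt4_eq h3 τ hv' hw'' hw')).2.2.2

lemma mid_line (ha : a₁ ≤ 3) : a₁ = 1 ∧ ∀ r v, IsWt τ (e4 h3) (w4 F 0 1 0 r) v →
    ∀ y, τ (X 6 y) v = v := by
  classical
  obtain ⟨v₁, κ, hv₁, hw₁, h6₁⟩ := exists_kappa h3 τ (r := 1) (ν := 0) (β := 1)
    ((wB_mid h3 τ one_ne_zero one_ne_zero 0).trans hC)
  have hfam : ∀ B : Fˣ, ∃ v, v ≠ 0 ∧ IsWt τ (e4 h3) (w4 F 0 1 0 (B : F)) v ∧
      ∀ y, τ (X 6 y) v = psi F (κ / (B : F) ^ 2 * y) • v := fun B => by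
    refine ⟨τ (H 1 B) v₁, apply_ne_zero τ _ hv₁, wt4_H h3 τ 1 B ?_, fun y => ?_⟩
    · simpa using hw₁
    · obtain ⟨y, rfl⟩ : ∃ y', (B : F) ^ 2 * y' = y := ⟨y / (B : F) ^ 2, by field_simp⟩
      rw [← apply_mul_apply, show X 6 ((B : F) ^ 2 * y) * H 1 B = H 1 B * X 6 y by rw [H6]; simp,
        apply_mul_apply, h6₁, map_smul]
      congr 2
      field_simp
  have h0 : ∀ v, IsWt τ (e4 h3) (w4 F 0 1 0 0) v → ∀ y, τ (X 6 y) v = psi F ((0 : F) * y) • v :=
    fun v hv y => by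
      rw [six_fixed_zero h3 τ hq ha hv, zero_mul, AddChar.map_zero_eq_one, one_smul]
  have hle : a₁ ≤ 1 := by
    by_contra h
    obtain ⟨v, hv, hw⟩ := exists_wt τ (e4 h3) (χ := w4 F 0 1 0 0) (fun e => h (by
      show mult τ (e4 h3) _ ≤ 1; omega))
    refine h (finrank_le_one (⟨v, v, wp_apply τ (e4 h3) hw⟩ : LinearMap.range _) ?_)
    rintro ⟨w, hw'⟩
    by_cases hw0 : w = 0
    · exact ⟨0, Subtype.ext (by simp [hw0])⟩
    · have hwt : IsWt τ (e4 h3) (w4 F 0 1 0 0) w := by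
        obtain ⟨u, rfl⟩ := hw'; exact isWt_wp τ (e4 h3) _ u
      obtain ⟨⟨c, hc⟩, -⟩ := collide h3 τ hq hC hv hw0 hw (h0 v hw) hwt (h0 w hwt) rfl (by simp)
      exact ⟨c, Subtype.ext (by simpa using hc)⟩
  rcases Nat.eq_zero_or_pos a₁ with ha0 | ha0
  · exfalso
    have hne : ∀ B : Fˣ, κ / (B : F) ^ 2 + 1 - B ≠ 0 := fun B h => by
      obtain ⟨v, hv, hw, h6⟩ := hfam B
      have hwn := wt4_n0 h3 τ (wt4_seven h3 τ hw 1) (K := κ / (B : F) ^ 2 + 1 - B) fun y => by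
        rw [six_seven h3 τ hw h6 1 y]; congr 2; ring
      rw [mul_one, zero_sub, h] at hwn
      refine apply_ne_zero τ n0 (apply_ne_zero τ (X 7 1) hv) ?_
      rw [← wp_apply τ (e4 h3) hwn, wp_eq_zero τ (e4 h3)
        ((wB_mid_zero h3 τ (neg_ne_zero.2 one_ne_zero) (-1)).trans ha0), LinearMap.zero_apply]
    have hinj : Function.Injective fun B : Fˣ => Units.mk0 _ (hne B) := fun B B' e => by
      obtain ⟨v, hv, hw, h6⟩ := hfam B
      obtain ⟨v', hv', hw', h6'⟩ := hfam B'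
      exact Units.ext (collide h3 τ hq hC hv hv' hw h6 hw' h6' (congrArg Units.val e) (hne B)).2
    have hs := (Equiv.ofBijective _ (Finite.injective_iff_bijective.1 hinj)).sum_comp
      fun u : Fˣ => (u : F)
    simp only [Equiv.ofBijective_apply, Units.val_mk0] at hs
    have p1 : ∑ u : Fˣ, (u : F) = 0 := by
      have := FiniteField.sum_pow_units F 1
      simp only [pow_one] at this
      rw [this, if_neg]
      intro h; have := Nat.le_of_dvd one_pos h; omega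
    have p2 : ∑ u : Fˣ, ((u : F) ^ 2)⁻¹ = 0 := by
      have := FiniteField.sum_pow_units F 2
      rw [if_neg (fun h => by have := Nat.le_of_dvd two_pos h; omega)] at this
      refine (Fintype.sum_equiv (Equiv.inv Fˣ) _ _ fun u => ?_).trans this
      simp [inv_pow]
    simp only [Finset.sum_add_distrib, Finset.sum_sub_distrib, div_eq_mul_inv, ← Finset.mul_sum, p1,
      p2, mul_zero, zero_add, sub_zero, Finset.sum_const, Finset.card_univ, Fintype.card_units,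
      nsmul_eq_mul, mul_one, Nat.cast_sub (Fintype.card_pos (α := F)), Nat.succ_eq_add_one,
      Nat.cast_one, FiniteField.cast_card_eq_zero, zero_sub] at hs
    exact neg_ne_zero.2 one_ne_zero hs
  have ha1 : a₁ = 1 := le_antisymm hle ha0
  have hκ : κ = 0 := by
    by_contra hκ
    haveI : CharP F 3 := by
      obtain ⟨p, hp⟩ := CharP.exists F
      have hd : p ∣ 3 := (CharP.cast_eq_zero_iff F p 3).1 (by exact_mod_cast h3)
      rcases CharP.char_is_prime_or_zero F p with hp' | hp'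
      · rwa [← (Nat.prime_dvd_prime_iff_eq hp' Nat.prime_three).1 hd]
      · rw [hp'] at hd; simp at hd
    haveI : Fact (Nat.Prime 3) := ⟨Nat.prime_three⟩
    obtain ⟨ρ, hρ⟩ := (bijective_frobenius F 3).surjective κ
    have hρ3 : ρ ^ 3 = κ := hρ
    have hρ0 : ρ ≠ 0 := by rintro rfl; exact hκ (by rw [← hρ3]; simp)
    obtain ⟨v, hv, hw, h6⟩ := hfam (Units.mk0 ρ hρ0)
    obtain ⟨v', hv', hw'⟩ := exists_wt τ (e4 h3) (χ := w4 F 0 1 0 0) (by
      rw [show mult τ (e4 h3) (w4 F 0 1 0 0) = 1 from ha1]; exact one_ne_zero)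
    refine hρ0 (collide h3 τ hq hC hv hv' hw h6 hw' (h0 v' hw') ?_ ?_).2 <;>
      rw [Units.val_mk0, ← hρ3, show ρ ^ 3 / ρ ^ 2 = ρ by field_simp] <;> simp
  refine ⟨ha1, fun r v hw y => ?_⟩
  rcases eq_or_ne r 0 with rfl | hr
  · exact six_fixed_zero h3 τ hq ha hw y
  · obtain ⟨v', hv', hw', h6'⟩ := hfam (Units.mk0 r hr)
    have h1 : mult τ (e4 h3) (w4 F 0 1 0 r) = 1 := (wB_mid h3 τ one_ne_zero hr 0).trans hC
    obtain ⟨c, rfl⟩ := exists_smul τ (e4 h3) h1 hv' hw' hw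
    rw [map_smul, h6', hκ]
    simp

lemma low_zero (ha : a₁ ≤ 3) {ν r : F} (hν : ν ≠ 0) (hr : r ≠ 0) : wB h3 τ 0 0 ν r = 0 := by
  classical
  suffices h : ∀ r, r ≠ 0 → wB h3 τ 0 0 (-1) r = 0 by
    have e := wB_torus h3 τ 1 (Units.mk0 (-ν⁻¹) (neg_ne_zero.2 (inv_ne_zero hν))) 0 0 ν r
    simp only [Units.val_mk0, Units.val_one, mul_zero, one_pow, div_one, neg_mul,
      inv_mul_cancel₀ hν] at e
    rw [← e]
    exact h _ (mul_ne_zero (one_div_ne_zero (neg_ne_zero.2 (inv_ne_zero hν))) hr)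
  intro r hr
  by_contra h
  obtain ⟨u, hu, hw⟩ := exists_wt τ (e4 h3) h
  have hfix := (mid_line h3 τ hq hC ha).2
  have hx : IsWt τ (eC h3) (w3 F 0 1 0) (τ n0⁻¹ u) := fun m => by
    obtain ⟨a, b, c⟩ := m
    have e : eC h3 (a, b, c) * n0⁻¹ = n0⁻¹ * eC h3 (a, c, -b) := by
      rw [eq_inv_mul_iff_mul_eq, ← mul_assoc, n0_eC, mul_inv_cancel_right]
    rw [← apply_mul_apply, e, apply_mul_apply, show eC h3 (a, c, -b) = e4 h3 (a, c, -b, 0) from rfl,
      hw, map_smul, w4_apply, w3_apply]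
    congr 2; ring
  have h6 : ∀ y, τ (X 6 y) (τ n0⁻¹ u) = τ n0⁻¹ u := fun y => by
    have e : τ n0⁻¹ u = ∑ s : F, wp τ (e4 h3) (w4 F 0 1 0 s) (τ n0⁻¹ u) := by
      conv_lhs => rw [← wp_apply τ (eC h3) hx, eC, wp_comp, sum_w4]
      simp only [w4_drop4, w3_inj, ite_and, Finset.sum_ite_eq', Finset.mem_univ, if_true,
        Finset.sum_ite_irrel, Finset.sum_const_zero, LinearMap.sum_apply]
    rw [e, map_sum]
    exact Finset.sum_congr rfl fun s _ => hfix s _ (isWt_wp τ (e4 h3) _ _) y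
  refine hr (psi_inj fun d => ?_)
  have e1 : τ (X 10 d) (τ n0 (τ n0⁻¹ u)) = τ n0 (τ n0⁻¹ u) := by
    rw [← apply_mul_apply, ← n0_6, apply_mul_apply, h6]
  rw [← apply_mul_apply τ n0, mul_inv_cancel, map_one, Module.End.one_apply, wt4_ten h3 τ hw] at e1
  rw [zero_mul, AddChar.map_zero_eq_one]
  exact smul_left_injective ℂ hu (e1.trans (one_smul ℂ u).symm)

omit hC in
lemma low_six (r : F) (hr : r ≠ 0) :
    ∃ J, wB h3 τ 0 0 0 r = q * J ∧
      ∀ κ, mi τ (X 6) (wp τ (e4 h3) (w4 F 0 0 0 r)) (w1 F κ) = J := by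
  classical
  set P := wp τ (e4 h3) (w4 F 0 0 0 r) with hPdef
  have hP : IsIdempotentElem P := wp_mul_self τ (e4 h3) _
  have hc : ∀ m, Commute P (τ (X 6 m)) := commute_X6 h3 τ 0 0 r
  have h7 : ∀ t, Commute (τ (X 7 t)) P := fun t =>
    wp_conj τ (e4 h3) (f := Equiv.ofBijective _ (Finite.injective_iff_bijective.1 (inj7 t)))
      (fun m => X7_e4 h3 t m.1 m.2.1 m.2.2.1 m.2.2.2) fun m => by simp [w4_apply]
  have hmove : ∀ t κ : F, τ (X 7 t) * (P * wp τ (X 6) (w1 F (κ + r * t ^ 3))) =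
      (P * wp τ (X 6) (w1 F κ)) * τ (X 7 t) := by
    intro t κ
    refine LinearMap.ext fun x => ?_
    rw [mul_assoc P (wp τ (X 6) _), (wp_commute τ (X 6) hc _).eq, wp, wp]
    simp only [Module.End.mul_apply, LinearMap.smul_apply, LinearMap.sum_apply, map_smul, map_sum]
    congr 1
    refine Finset.sum_congr rfl fun y _ => ?_
    have hwP : IsWt τ (e4 h3) (w4 F 0 0 0 r) (P x) := isWt_wp τ (e4 h3) _ x
    have e := congrArg (fun T : Module.End ℂ V => T x) (h7 t).eq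
    simp only [Module.End.mul_apply] at e
    have e2 : τ (X 6 y) (τ (X 7 t) (P x)) =
        psi F (-(r * t ^ 3) * y) • τ (X 7 t) (τ (X 6 y) (P x)) := by
      rw [← apply_mul_apply, s67]
      simp only [apply_mul_apply, wt4_eleven h3 τ hwP, wt4_ten h3 τ hwP, wt4_nine h3 τ hwP,
        wt4_eight h3 τ hwP, map_smul, smul_smul, ← AddChar.map_add_eq_mul]
      congr 2
      ring
    rw [← Module.End.mul_apply P (τ (X 6 y)), (hc y).eq, Module.End.mul_apply, ← e, e2, smul_smul]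
    congr 1
    rw [w1_apply, w1_apply, ← AddChar.map_add_eq_mul]
    congr 1
    ring
  have hall : ∀ κ, mi τ (X 6) P (w1 F κ) = mi τ (X 6) P (w1 F 0) := fun κ => by
    haveI : CharP F 3 := by
      obtain ⟨p, hp⟩ := CharP.exists F
      have hd : p ∣ 3 := (CharP.cast_eq_zero_iff F p 3).1 (by exact_mod_cast h3)
      rcases CharP.char_is_prime_or_zero F p with hp' | hp'
      · rwa [← (Nat.prime_dvd_prime_iff_eq hp' Nat.prime_three).1 hd]
      · rw [hp'] at hd; simp at hd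
    haveI : Fact (Nat.Prime 3) := ⟨Nat.prime_three⟩
    obtain ⟨t, ht⟩ := (bijective_frobenius F 3).surjective (κ / r)
    have ht' : r * t ^ 3 = κ := by
      rw [show t ^ 3 = κ / r from ht, mul_div_cancel₀ _ hr]
    have e := trace_eq_of_conj τ (hmove t 0)
    rw [zero_add, ht', trace_mul_wp τ (X 6) hP hc, trace_mul_wp τ (X 6) hP hc] at e
    exact_mod_cast e
  refine ⟨mi τ (X 6) P (w1 F 0), ?_, hall⟩
  have hs := sum_mi τ (X 6) hP hc
  rw [trace_wp] at hs
  rw [show wB h3 τ 0 0 0 r = mult τ (e4 h3) (w4 F 0 0 0 r) from rfl, ← Nat.cast_injective hs,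
    ← (Equiv.ofBijective _ (w1_bijective (F := F))).sum_comp]
  simp [hall]

/-- either the degree is large or the multiplicities are small -/
theorem three_sharp :
    q ^ 4 + q ^ 2 + 1 ≤ finrank ℂ V ∨
      (a₁ = 1 ∧ a₀ = 1 ∧ wB h3 τ 0 0 0 1 = q ∧
        (∀ ν r : F, ν ≠ 0 → r ≠ 0 → wB h3 τ 0 0 ν r = 0) ∧
        (∀ r : F, r ≠ 0 → mi τ (X 6) (wp τ (e4 h3) (w4 F 0 0 0 r)) (w1 F 0) = 1) ∧
        finrank ℂ V + 2 * q = q ^ 4 + q ^ 2 + wB h3 τ 0 0 0 0) := by
  have hs := finrank_three h3 τ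
  obtain ⟨p, hp⟩ : ∃ p, q = p + 1 := ⟨q - 1, by omega⟩
  rw [hC] at hs
  rcases le_or_gt 4 a₁ with ha | ha
  · left
    have h4 := Nat.mul_le_mul_left ((q - 1) * q + (q - 1)) ha
    simp only [hp, Nat.add_sub_cancel] at hs h4 ⊢
    have h8 : 8 * 8 ≤ p * p := Nat.mul_le_mul (by omega) (by omega)
    nlinarith [Nat.zero_le (p * (p + 1) * a₀), Nat.zero_le (p * wB h3 τ 0 0 0 1)]
  have ha' : a₁ ≤ 3 := by omega
  have ha1 := (mid_line h3 τ hq hC ha').1
  have hlow := fun ν r hν hr => low_zero h3 τ hq hC ha' (ν := ν) (r := r) hν hr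
  have hG : wB h3 τ 0 0 0 1 = a₀ + (q - 1) := by
    have e := sum_low_r h3 τ (one_ne_zero (α := F))
    rw [sum_two _ 0 fun ν hν => hlow ν 1 hν one_ne_zero, smul_zero, add_zero, hC, mul_one] at e
    exact e
  obtain ⟨J, hJ, -⟩ := low_six h3 τ hq 1 one_ne_zero
  have hJ1 : 1 ≤ J := by
    rcases Nat.eq_zero_or_pos J with h | h
    · rw [h, mul_zero] at hJ; omega
    · exact h
  rcases eq_or_lt_of_le hJ1 with rfl | hJ2
  · right
    rw [mul_one] at hJ
    refine ⟨ha1, by omega, hJ, hlow, fun r hr => ?_, ?_⟩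
    · obtain ⟨J', hJ', hall⟩ := low_six h3 τ hq r hr
      rw [wB_low_r h3 τ hr, hJ] at hJ'
      rw [hall 0]
      exact Nat.eq_of_mul_eq_mul_left (by omega : 0 < q) (by omega : q * J' = q * 1)
    · have h0 : a₀ = 1 := by omega
      rw [ha1, h0, hJ] at hs
      simp only [hp, Nat.add_sub_cancel] at hs ⊢
      rw [hs]; ring
  · left
    have h2 : q * 2 ≤ q * J := Nat.mul_le_mul_left _ hJ2
    have h0 : q + 1 ≤ a₀ := by omega
    have h5 := Nat.mul_le_mul_left ((q - 1) * q) h0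
    rw [ha1] at hs
    have h6 := Nat.mul_le_mul_left (q - 1) (show 2 * q ≤ wB h3 τ 0 0 0 1 by omega)
    simp only [hp, Nat.add_sub_cancel] at hs h5 h6 ⊢
    nlinarith

end CfsgLib.CharsMore.G2MinDeg
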