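import Cfsg.Agent.Lib.CharsMore.G2MinDeg.NotThree

/-!
# Characteristic three: the weights of the abelian subgroup `X₁₁ X₉ X₈ X₁₀`
-/

set_option autoImplicit false
set_option maxRecDepth 100000

namespace CfsgLib.CharsMore.G2MinDeg

open Cfsg.Lie CfsgLib.Chev Module CfsgLib.CharsMore.D4MinDeg

variable {F : Type*} [Field F] (h3 : (3 : F) = 0)

section Group

/-- `X₈ X₁₀` -/
noncomputable def e810 : AddChar (F × F) (GG F) := prodChar (X 8) (X 10) c8_10

lemma e810_apply (p : F × F) : e810 p = X 8 p.1 * X 10 p.2 := prodChar_apply _ _ _ p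

lemma c8_10_pair (a : F) (p : F × F) : Commute (X 11 a) (e810 p) := by
  rw [e810_apply]
  exact ((c8_11 p.1 a).symm).mul_right (c10_11 p.2 a).symm

include h3 in
lemma c98 (b c : F) : Commute (X 9 b) (X 8 c) := by
  show X 9 b * X 8 c = X 8 c * X 9 b
  rw [s89, h3, zero_mul, zero_mul, AddChar.map_zero_eq_one, mul_one]

include h3 in
lemma c9_pair (b : F) (p : F × F) : Commute (X 9 b) (e810 p) := by
  rw [e810_apply]
  exact (c98 h3 b p.1).mul_right (c9_10 b p.2)

/-- `X₉ X₈ X₁₀` -/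
noncomputable def e9810 : AddChar (F × F × F) (GG F) := prodChar (X 9) e810 (c9_pair h3)

lemma e9810_apply (p : F × F × F) : e9810 h3 p = X 9 p.1 * e810 p.2 := prodChar_apply _ _ _ p

lemma c11_triple (a : F) (p : F × F × F) : Commute (X 11 a) (e9810 h3 p) := by
  rw [e9810_apply]
  exact ((c9_11 p.1 a).symm).mul_right (c8_10_pair a p.2)

/-- the abelian subgroup -/
noncomputable def e4 : AddChar (F × F × F × F) (GG F) :=
  prodChar (X 11) (e9810 h3) (c11_triple h3)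

lemma e4_apply (a b c d : F) : e4 h3 (a, b, c, d) = X 11 a * (X 9 b * (X 8 c * X 10 d)) := by
  rw [e4, prodChar_apply, e9810_apply, e810_apply]

lemma X6_e4 (y a b c d : F) :
    X 6 y * e4 h3 (a, b, c, d) = e4 h3 (a + d * y, b, c, d) * X 6 y := by
  simp only [e4_apply, AddChar.map_add_eq_mul]
  calc X 6 y * (X 11 a * (X 9 b * (X 8 c * X 10 d)))
      = (X 6 y * X 11 a) * X 9 b * X 8 c * X 10 d := by group
    _ = X 11 a * (X 6 y * X 9 b) * X 8 c * X 10 d := by rw [(c6_11 y a).eq]; group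
    _ = X 11 a * X 9 b * (X 6 y * X 8 c) * X 10 d := by rw [(c6_9 y b).eq]; group
    _ = X 11 a * X 9 b * X 8 c * (X 6 y * X 10 d) := by rw [(c6_8 y c).eq]; group
    _ = X 11 a * X 9 b * X 8 c * (X 10 d * X 11 (d * y)) * X 6 y := by rw [s610]; group
    _ = X 11 a * X 9 b * (X 8 c * X 11 (d * y)) * X 10 d * X 6 y := by
        rw [(c10_11 d _).eq]; group
    _ = X 11 a * (X 9 b * X 11 (d * y)) * X 8 c * X 10 d * X 6 y := by rw [(c8_11 c _).eq]; group
    _ = _ := by rw [(c9_11 b _).eq]; group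

lemma X7_e4 (t a b c d : F) :
    X 7 t * e4 h3 (a, b, c, d) = e4 h3 (a, b + c * t, c, d) * X 7 t := by
  simp only [e4_apply, AddChar.map_add_eq_mul]
  have e78 : X 7 t * X 8 c = X 8 c * X 7 t * X 9 (c * t) := by
    rw [s78, show -(2 * c * t) = c * t - 3 * c * t by ring, h3]
    simp
  have e79 : ∀ u, X 7 t * X 9 u = X 9 u * X 7 t := fun u => by
    rw [s79, h3, zero_mul, zero_mul, AddChar.map_zero_eq_one, mul_one]
  calc X 7 t * (X 11 a * (X 9 b * (X 8 c * X 10 d)))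
      = (X 7 t * X 11 a) * X 9 b * X 8 c * X 10 d := by group
    _ = X 11 a * (X 7 t * X 9 b) * X 8 c * X 10 d := by rw [(c7_11 t a).eq]; group
    _ = X 11 a * X 9 b * (X 7 t * X 8 c) * X 10 d := by rw [e79]; group
    _ = X 11 a * X 9 b * X 8 c * (X 7 t * X 9 (c * t)) * X 10 d := by rw [e78]; group
    _ = X 11 a * X 9 b * (X 8 c * X 9 (c * t)) * (X 7 t * X 10 d) := by rw [e79]; group
    _ = _ := by rw [(c98 h3 (c * t) c).symm.eq, (c7_10 t d).eq]; group

lemma H_e4 (A B : Fˣ) (a b c d : F) :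
    H A B * e4 h3 (a, b, c, d) =
      e4 h3 ((B : F) * a, (A : F) * b, (B : F) / A * c, (A : F) ^ 3 / B * d) * H A B := by
  simp only [e4_apply]
  rw [← mul_assoc, H11, mul_assoc (X 11 _), ← mul_assoc (H A B), H9, mul_assoc (X 9 _),
    ← mul_assoc (H A B), H8, mul_assoc (X 8 _), H10]
  group

end Group

variable [Fintype F] {V : Type*} [AddCommGroup V] [Module ℂ V] [FiniteDimensional ℂ V]
  (τ : Representation ℂ (GG F) V)

/-- the weights -/
noncomputable def wB (l β ν r : F) : ℕ := mult τ (e4 h3) (w4 F l β ν r)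

lemma wB_conj {g : GG F} (f : F × F × F × F → F × F × F × F) (hf : Function.Injective f)
    {l β ν r l' β' ν' r' : F}
    (hg : ∀ a b c d, g * e4 h3 (a, b, c, d) = e4 h3 (f (a, b, c, d)) * g)
    (hχ : ∀ a b c d, l' * (f (a, b, c, d)).1 + β' * (f (a, b, c, d)).2.1 +
      ν' * (f (a, b, c, d)).2.2.1 + r' * (f (a, b, c, d)).2.2.2 = l * a + β * b + ν * c + r * d) :
    wB h3 τ l β ν r = wB h3 τ l' β' ν' r' :=
  mult_conj τ (e4 h3) (f := Equiv.ofBijective f (Finite.injective_iff_bijective.1 hf))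
    (fun m => hg m.1 m.2.1 m.2.2.1 m.2.2.2) fun m => by
      simp only [Equiv.ofBijective_apply, w4_apply, hχ m.1 m.2.1 m.2.2.1 m.2.2.2]

omit [Fintype F] in
lemma inj6 (y : F) : Function.Injective fun m : F × F × F × F =>
    (m.1 + m.2.2.2 * y, m.2.1, m.2.2.1, m.2.2.2) := fun m n h => by
  simp only [Prod.mk.injEq] at h
  obtain ⟨h1, h2, h3', h4⟩ := h
  rw [h4] at h1
  exact Prod.ext (add_right_cancel h1) (Prod.ext h2 (Prod.ext h3' h4))

omit [Fintype F] in
lemma inj7 (t : F) : Function.Injective fun m : F × F × F × F =>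
    (m.1, m.2.1 + m.2.2.1 * t, m.2.2.1, m.2.2.2) := fun m n h => by
  simp only [Prod.mk.injEq] at h
  obtain ⟨h1, h2, h3', h4⟩ := h
  rw [h3'] at h2
  exact Prod.ext h1 (Prod.ext (add_right_cancel h2) (Prod.ext h3' h4))

omit [Fintype F] in
lemma injH (A B : Fˣ) : Function.Injective fun m : F × F × F × F =>
    ((B : F) * m.1, (A : F) * m.2.1, (B : F) / A * m.2.2.1, (A : F) ^ 3 / B * m.2.2.2) :=
  fun m n h => by simpa [Prod.ext_iff] using h

lemma wB_shift6 (y l β ν r : F) : wB h3 τ l β ν (r + y * l) = wB h3 τ l β ν r :=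
  wB_conj h3 τ (g := X 6 y) _ (inj6 y) (fun a b c d => X6_e4 h3 y a b c d) fun a b c d => by ring

lemma wB_shift7 (t l β ν r : F) : wB h3 τ l β (ν + t * β) r = wB h3 τ l β ν r :=
  wB_conj h3 τ (g := X 7 t) _ (inj7 t) (fun a b c d => X7_e4 h3 t a b c d) fun a b c d => by ring

lemma wB_torus (A B : Fˣ) (l β ν r : F) :
    wB h3 τ ((B : F) * l) ((A : F) * β) ((B : F) / A * ν) ((A : F) ^ 3 / B * r) = wB h3 τ l β ν r :=
  wB_conj h3 τ (g := H A B) _ (injH A B) (fun a b c d => H_e4 h3 A B a b c d) fun a b c d => by ring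

variable (F) in
/-- forget the third coordinate -/
def drop3 : F × F × F →+ F × F × F × F where
  toFun m := (m.1, m.2.1, 0, m.2.2)
  map_zero' := rfl
  map_add' m n := by simp [Prod.ext_iff]

variable (F) in
/-- forget the last coordinate -/
def drop4 : F × F × F →+ F × F × F × F where
  toFun m := (m.1, m.2.1, m.2.2, 0)
  map_zero' := rfl
  map_add' m n := by simp [Prod.ext_iff]

omit [Fintype F] in
lemma e4_drop3 : (e4 h3).compAddMonoidHom (drop3 F) = e3 := by
  refine DFunLike.ext _ _ fun m => ?_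
  show e4 h3 (m.1, m.2.1, 0, m.2.2) = e3 (m.1, m.2.1, m.2.2)
  rw [e4_apply, e3_apply, AddChar.map_zero_eq_one, one_mul]

/-- the subgroup `X₁₁ X₉ X₈` -/
noncomputable def eC : AddChar (F × F × F) (GG F) := (e4 h3).compAddMonoidHom (drop4 F)

omit [Fintype F] in
lemma eC_apply (a b c : F) : eC h3 (a, b, c) = X 11 a * (X 9 b * X 8 c) := by
  show e4 h3 (a, b, c, 0) = _
  rw [e4_apply, AddChar.map_zero_eq_one, mul_one]

lemma w4_drop3 (l β ν r : F) : (w4 F l β ν r).compAddMonoidHom (drop3 F) = w3 F l β r := by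
  refine DFunLike.ext _ _ fun m => ?_
  show w4 F l β ν r (m.1, m.2.1, 0, m.2.2) = _
  rw [w4_apply, w3_apply]; simp

lemma w4_drop4 (l β ν r : F) : (w4 F l β ν r).compAddMonoidHom (drop4 F) = w3 F l β ν := by
  refine DFunLike.ext _ _ fun m => ?_
  show w4 F l β ν r (m.1, m.2.1, m.2.2, 0) = _
  rw [w4_apply, w3_apply]; simp

lemma wA_eq_sum (l β r : F) : wA τ l β r = ∑ ν, wB h3 τ l β ν r := by
  classical
  rw [wA, ← e4_drop3 h3, mult_comp, sum_w4]
  simp only [w4_drop3, w3_inj, ite_and]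
  simp [Finset.sum_ite_eq', wB]

/-- the weights of `X₁₁ X₉ X₈` -/
noncomputable def wC (l β ν : F) : ℕ := mult τ (eC h3) (w3 F l β ν)

lemma wC_eq_sum (l β ν : F) : wC h3 τ l β ν = ∑ r, wB h3 τ l β ν r := by
  classical
  rw [wC, eC, mult_comp, sum_w4]
  simp only [w4_drop4, w3_inj, ite_and]
  simp [Finset.sum_ite_eq', wB]

omit [Fintype F] in
lemma n0_eC (a b c : F) : n0 * eC h3 (a, b, c) = eC h3 (a, c, -b) * n0 := by
  simp only [eC_apply]
  calc n0 * (X 11 a * (X 9 b * X 8 c)) = (n0 * X 11 a) * X 9 b * X 8 c := by group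
    _ = X 11 a * (n0 * X 9 b) * X 8 c := by rw [n0_11]; group
    _ = X 11 a * X 8 (-b) * (n0 * X 8 c) := by rw [n0_9]; group
    _ = X 11 a * (X 8 (-b) * X 9 c) * n0 := by rw [n0_8]; group
    _ = _ := by rw [(c98 h3 c (-b)).symm.eq]

lemma inj_n0 : Function.Injective fun m : F × F × F => (m.1, m.2.2, -m.2.1) := fun m n h => by
  simp_all [Prod.ext_iff]

lemma wC_n0 (l β ν : F) : wC h3 τ l ν (-β) = wC h3 τ l β ν :=
  (mult_conj τ (eC h3) (g := n0)
    (f := Equiv.ofBijective _ (Finite.injective_iff_bijective.1 inj_n0))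
    (fun m => n0_eC h3 m.1 m.2.1 m.2.2) fun m => by
      simp only [Equiv.ofBijective_apply, w3_apply]; congr 1; ring).symm

local notation "q" => Fintype.card F
local notation "C" => wB h3 τ 1 1 0 0
local notation "a₀" => wB h3 τ 1 0 0 0
local notation "a₁" => wB h3 τ 0 1 0 0

lemma wB_top_r {l : F} (hl : l ≠ 0) (β ν r : F) : wB h3 τ l β ν r = wB h3 τ l β ν 0 := by
  have e := wB_shift6 h3 τ (r / l) l β ν 0
  rwa [zero_add, div_mul_cancel₀ _ hl] at e

lemma wB_top {l β : F} (hl : l ≠ 0) (hβ : β ≠ 0) (ν r : F) : wB h3 τ l β ν r = C := by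
  have e1 := wB_shift7 h3 τ (ν / β) l β 0 0
  rw [zero_add, div_mul_cancel₀ _ hβ] at e1
  have e2 := wB_torus h3 τ (Units.mk0 β hβ) (Units.mk0 l hl) 1 1 0 0
  simp only [Units.val_mk0, mul_one, mul_zero] at e2
  rw [wB_top_r h3 τ hl, e1, e2]

lemma wB_top_nu {l ν : F} (hl : l ≠ 0) (hν : ν ≠ 0) (r : F) : wB h3 τ l 0 ν r = C := by
  have e := wC_n0 h3 τ l 0 ν
  rw [neg_zero, wC_eq_sum, wC_eq_sum,
    Finset.sum_congr rfl fun r _ => wB_top h3 τ hl hν 0 r,
    Finset.sum_congr rfl fun r _ => wB_top_r h3 τ hl 0 ν r] at e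
  simp only [Finset.sum_const, smul_eq_mul] at e
  rw [wB_top_r h3 τ hl]
  exact (Nat.eq_of_mul_eq_mul_left (by simp [Fintype.card_pos]) e).symm

lemma wB_top_zero {l : F} (hl : l ≠ 0) (r : F) : wB h3 τ l 0 0 r = a₀ := by
  have e := wB_torus h3 τ 1 (Units.mk0 l hl) 1 0 0 0
  simp only [Units.val_mk0, mul_one, mul_zero] at e
  rw [wB_top_r h3 τ hl, e]

lemma wB_mid_nu {β : F} (hβ : β ≠ 0) (ν r : F) : wB h3 τ 0 β ν r = wB h3 τ 0 β 0 r := by
  have e := wB_shift7 h3 τ (ν / β) 0 β 0 r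
  rwa [zero_add, div_mul_cancel₀ _ hβ] at e

lemma wB_mid {β r : F} (hβ : β ≠ 0) (hr : r ≠ 0) (ν : F) : wB h3 τ 0 β ν r = C := by
  have e := wA_n1 τ 0 β r
  rw [wA_eq_sum h3, wA_eq_sum h3,
    Finset.sum_congr rfl fun ν _ => wB_top h3 τ (neg_ne_zero.2 hr) hβ ν 0,
    Finset.sum_congr rfl fun ν _ => wB_mid_nu h3 τ hβ ν r] at e
  simp only [Finset.sum_const, smul_eq_mul] at e
  rw [wB_mid_nu h3 τ hβ]
  exact (Nat.eq_of_mul_eq_mul_left (by simp [Fintype.card_pos]) e).symm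

lemma wB_mid_zero {β : F} (hβ : β ≠ 0) (ν : F) : wB h3 τ 0 β ν 0 = a₁ := by
  have e := wB_torus h3 τ (Units.mk0 β hβ) 1 0 1 0 0
  simp only [Units.val_mk0, mul_one, mul_zero] at e
  rw [wB_mid_nu h3 τ hβ, e]

lemma sum_low_nu {ν : F} (hν : ν ≠ 0) :
    ∑ r, wB h3 τ 0 0 ν r = a₁ + (q - 1) * C := by
  rw [← wC_eq_sum, ← wC_n0 h3 τ 0 0 ν, neg_zero, wC_eq_sum,
    sum_two _ _ fun r hr => wB_mid h3 τ hν hr 0, wB_mid_zero h3 τ hν, smul_eq_mul]

lemma sum_low_r {r : F} (hr : r ≠ 0) : ∑ ν, wB h3 τ 0 0 ν r = a₀ + (q - 1) * C := by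
  rw [← wA_eq_sum, ← wA_n1 τ 0 0 r, wA_eq_sum h3,
    sum_two _ _ fun ν hν => wB_top_nu h3 τ (neg_ne_zero.2 hr) hν 0,
    wB_top_zero h3 τ (neg_ne_zero.2 hr), smul_eq_mul]

lemma wB_low_r {r : F} (hr : r ≠ 0) : wB h3 τ 0 0 0 r = wB h3 τ 0 0 0 1 := by
  have e := wB_torus h3 τ 1 (Units.mk0 r⁻¹ (inv_ne_zero hr)) 0 0 0 1
  simpa using e

lemma finrank_three : finrank ℂ V =
    (q - 1) * ((q - 1) * q * q + (q - 1) * q) * C +
      (q - 1) * ((q - 1) * q + (q - 1)) * C + (q - 1) * q * a₀ + ((q - 1) * q + (q - 1)) * a₁ +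
      (q - 1) * wB h3 τ 0 0 0 1 + wB h3 τ 0 0 0 0 := by
  rw [← sum_mult τ (e4 h3), sum_w4]
  show ∑ l, ∑ β, ∑ ν, ∑ r, wB h3 τ l β ν r = _
  rw [sum_two _ (((q - 1) * q * q + (q - 1) * q) * C + q * a₀) fun l hl => ?_]
  · rw [sum_two _ ((q - 1) * q * C + q * a₁) fun β hβ => ?_,
      sum_two _ (a₁ + (q - 1) * C) fun ν hν => sum_low_nu h3 τ hν,
      sum_two _ (wB h3 τ 0 0 0 1) fun r hr => wB_low_r h3 τ hr]
    · simp only [smul_eq_mul]; ring
    · rw [Finset.sum_congr rfl fun ν _ => sum_two _ C fun r hr => wB_mid h3 τ hβ hr ν,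
        Finset.sum_congr rfl fun ν _ => by rw [wB_mid_zero h3 τ hβ ν]]
      simp [mul_add]; ring
  · rw [sum_two _ (q * q * C) fun β hβ => by
        simp [Finset.sum_congr rfl fun ν _ => Finset.sum_congr rfl fun r _ => wB_top h3 τ hl hβ ν r,
          mul_assoc],
      sum_two _ (q * C) fun ν hν => by
        simp [Finset.sum_congr rfl fun r _ => wB_top_nu h3 τ hl hν r],
      Finset.sum_congr rfl fun r _ => wB_top_zero h3 τ hl r]
    simp only [Finset.sum_const, Finset.card_univ, smul_eq_mul]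
    ring

variable [τ.IsIrreducible]

lemma top_ne_zero (hq : 5 ≤ q) (hk : 2 ≤ finrank ℂ V) : C ≠ 0 := by
  intro hC
  have hz : ∀ l β ν r : F, β ≠ 0 → (l ≠ 0 ∨ r ≠ 0) → wB h3 τ l β ν r = 0 := fun l β ν r hβ h => by
    rcases eq_or_ne l 0 with rfl | hl
    · rw [wB_mid h3 τ hβ (h.resolve_left (by simp)) ν, hC]
    · rw [wB_top h3 τ hl hβ ν r, hC]
  have ha : a₁ = 0 := by
    by_contra ha
    obtain ⟨v, hv, hwt⟩ := exists_wt τ (e4 h3) ha
    obtain ⟨z, hzz⟩ := exists_pow_ne_one (F := F) (n := 2) (by norm_num) (by omega)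
    have key : ∀ t : F, t ≠ 0 → ∀ y, τ (X 6 y) v = psi F (-(t ^ 2 * y)) • v := by
      intro t ht y
      set u := τ (X 7 t) v with hu
      have hwu : IsWt τ (eC h3) (w3 F 0 1 (-t)) u := fun m => by
        have h := IsWt.conj τ (e4 h3) (f := Equiv.ofBijective _ (Finite.injective_iff_bijective.1 (inj7 t)))
          (χ' := w4 F 0 1 (-t) 0) hwt (fun m => X7_e4 h3 t m.1 m.2.1 m.2.2.1 m.2.2.2) (fun m => by
            simp [Equiv.ofBijective_apply, w4_apply]; congr 1; ring) (drop4 F m)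
        rw [← AddChar.compAddMonoidHom_apply (w4 F 0 1 (-t) 0), w4_drop4] at h
        exact h
      have hwn : IsWt τ (eC h3) (w3 F 0 (-t) (-1)) (τ n0 u) :=
        IsWt.conj τ (eC h3) (f := Equiv.ofBijective _ (Finite.injective_iff_bijective.1 inj_n0))
          hwu (fun m => n0_eC h3 m.1 m.2.1 m.2.2) fun m => by
            simp [Equiv.ofBijective_apply, w3_apply]; congr 1; ring
      have h10 : ∀ d, τ (X 10 d) (τ n0 u) = τ n0 u := fun d => by
        classical
        have e : τ n0 u = wp τ (e4 h3) (w4 F 0 (-t) (-1) 0) (τ n0 u) := by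
          conv_lhs => rw [← wp_apply τ (eC h3) hwn, eC, wp_comp, sum_w4]
          simp only [w4_drop4, w3_inj, ite_and, Finset.sum_ite_eq', Finset.mem_univ, if_true,
            Finset.sum_ite_irrel, Finset.sum_const_zero, LinearMap.sum_apply]
          refine Finset.sum_eq_single 0 (fun r _ hr => ?_) (by simp)
          rw [wp_eq_zero τ _ (hz 0 (-t) (-1) r (neg_ne_zero.2 ht) (Or.inr hr)), LinearMap.zero_apply]
        conv_lhs => rw [e, show X 10 d = e4 h3 (0, 0, 0, d) by simp [e4_apply]]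
        rw [isWt_wp, w4_apply]
        simp [← e]
      have h6 : τ (X 6 y) u = u := by
        have h := h10 y
        rw [← apply_mul_apply, ← n0_6, apply_mul_apply] at h
        exact (apply_inv_apply τ n0 _).symm.trans ((congrArg (τ n0⁻¹) h).trans (apply_inv_apply τ n0 u))
      rw [hu, ← apply_mul_apply, s67, apply_mul_apply, apply_mul_apply] at h6
      have hr : τ (X 8 (t * y) * X 9 (t ^ 2 * y) * X 10 (-(t ^ 3 * y)) * X 11 (-(t ^ 3 * y ^ 2))) v =
          psi F (t ^ 2 * y) • v := by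
        have e8 : ∀ c, τ (X 8 c) v = v := fun c => by
          simpa [e4_apply, w4_apply] using hwt (0, 0, c, 0)
        have e9 : ∀ c, τ (X 9 c) v = psi F c • v := fun c => by
          simpa [e4_apply, w4_apply] using hwt (0, c, 0, 0)
        have e10 : ∀ c, τ (X 10 c) v = v := fun c => by
          simpa [e4_apply, w4_apply] using hwt (0, 0, 0, c)
        have e11 : ∀ c, τ (X 11 c) v = v := fun c => by
          simpa [e4_apply, w4_apply] using hwt (c, 0, 0, 0)
        rw [apply_mul_apply, apply_mul_apply, apply_mul_apply, e11, e10, e9, map_smul, e8]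
      rw [hr, map_smul, map_smul] at h6
      have h7 := congrArg (τ (X 7 t)⁻¹) h6
      rw [map_smul, apply_inv_apply, apply_inv_apply] at h7
      have h8 := congrArg (psi F (-(t ^ 2 * y)) • ·) h7
      simp only [smul_smul, ← AddChar.map_add_eq_mul, neg_add_cancel, AddChar.map_zero_eq_one,
        one_smul] at h8
      exact h8
    have e : ((z : F) ^ 2) = 1 := psi_inj fun y => by
      have h := smul_left_injective ℂ hv ((key _ z.ne_zero (-y)).symm.trans (key 1 one_ne_zero (-y)))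
      simpa using h
    exact hzz 2 (by norm_num) le_rfl (Units.ext (by simpa using e))
  refine X_one_ne (F := F) 9 (by decide +kernel) (eq_one_of_trivial τ (by omega) hk ?_)
  rw [show X 9 (1 : F) = e4 h3 (0, 1, 0, 0) by simp [e4_apply], apply_eq_sum, ← sum_wp τ (e4 h3)]
  refine Finset.sum_congr rfl fun χ _ => ?_
  obtain ⟨⟨l, β, ν, r⟩, rfl⟩ := w4_bijective.surjective χ
  by_cases hβ : β = 0
  · simp [w4_apply, hβ]
  · rw [wp_eq_zero τ (e4 h3) (show wB h3 τ l β ν r = 0 from ?_), smul_zero]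
    by_cases h : l = 0 ∧ r = 0
    · rw [h.1, h.2, wB_mid_zero h3 τ hβ, ha]
    · exact hz l β ν r hβ (not_and_or.1 h)

end CfsgLib.CharsMore.G2MinDeg
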